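import Cfsg.Agent.Lib.DihedralDefect.Lattice

/-!
# The dichotomy for the lattice of a dihedral defect group

Either there are `N + 3` places, or `N = 4` and the configuration is the exceptional one with
five places.
-/

set_option autoImplicit false
set_option linter.unusedSectionVars false

namespace CfsgLib.DihedralDefect

open scoped Classical

variable {ι : Type*} [Fintype ι] [DecidableEq ι] {m N : ℕ} {d : ℕ → ι → ℤ}

/-- The exceptional configuration. -/
def Exceptional (N : ℕ) (d : ℕ → ι → ℤ) : Prop :=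
  N = 4 ∧ ∀ X : ι → ℤ, (∀ i, 0 < X i) → (∀ k, 1 ≤ k → k ≤ 4 → ∑ i, X i * d k i = 0) →
    (∀ R : ι → ℂ, (∀ k, 1 ≤ k → k ≤ 4 → ∑ i, R i * (d k i : ℂ) = 0) →
      ∑ i, R i * (X i : ℂ) = 0 → ∀ i, R i = 0) ∧
    ∃ q σ, Odd (midVal N d q) ∧ (σ = 1 ∨ σ = -1) ∧
      ∑ i, (midVal N d i : ℂ) ^ 2 * (d 4 i : ℂ) / (X i : ℂ) = (σ : ℤ) * 32 / (3 * (X q : ℂ))

namespace Gram

variable (h : Gram m N d)
include h

/-- The configuration with the vector `d 1 - d 3` inside the four odd places. -/
theorem exceptional_of_inside (hN4 : N = 4) {a b : ι} (hab : a ≠ b) (ha : d N a ≠ 0)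
    (hb : d N b ≠ 0) (hua : d 1 a - d 3 a = 1 ∨ d 1 a - d 3 a = -1)
    (hub : d 1 b - d 3 b = 1 ∨ d 1 b - d 3 b = -1)
    (huo : ∀ i, i ≠ a → i ≠ b → d 1 i - d 3 i = 0) : Exceptional N d := by
  subst hN4
  obtain ⟨P, x, s, hw⟩ := h.exists_w (j := 2) le_rfl (by norm_num)
  have hva := (h.v_small a).resolve_left ha
  have hvb := (h.v_small b).resolve_left hb
  have hxa : x ≠ a := fun e => ha (e ▸ hw.x_out)
  have hxb : x ≠ b := fun e => hb (e ▸ hw.x_out)
  -- the product of the two signs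
  have huv : (d 1 a - d 3 a) * d 4 a + (d 1 b - d 3 b) * d 4 b = 0 := by
    rw [← sum_pair_supp hab huo (d 4)]; exact h.u_dot_v le_rfl (by norm_num)
  have huw : (d 1 a - d 3 a) * d 2 a + (d 1 b - d 3 b) * d 2 b = 0 := by
    rw [← sum_pair_supp hab huo (d 2), ← h.u_dot_w (a := 3) (j := 2) rfl le_rfl (by norm_num) rfl
      le_rfl (by norm_num)]
    exact Finset.sum_congr rfl fun i _ => mul_comm _ _
  have hwa : d 2 a = if a ∈ P then d 4 a else 0 := by
    split_ifs with e
    · exact hw.eq_P a e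
    · exact hw.eq_zero a e hxa.symm
  have hwb : d 2 b = if b ∈ P then d 4 b else 0 := by
    split_ifs with e
    · exact hw.eq_P b e
    · exact hw.eq_zero b e hxb.symm
  have hPab : a ∈ P ↔ b ∈ P := by
    rw [hwa, hwb] at huw
    by_cases e1 : a ∈ P <;> by_cases e2 : b ∈ P
    · exact iff_of_true e1 e2
    · rw [if_pos e1, if_neg e2, mul_zero, add_zero] at huw
      rcases mul_eq_zero.1 huw with e | e
      · rcases hua with e' | e' <;> omega
      · exact absurd e ha
    · rw [if_neg e1, if_pos e2, mul_zero, zero_add] at huw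
      rcases mul_eq_zero.1 huw with e | e
      · rcases hub with e' | e' <;> omega
      · exact absurd e hb
    · exact iff_of_false e1 e2
  -- the other two odd places
  set O := Finset.univ.filter fun i => d 4 i ≠ 0 with hO
  have hOab : ((O.erase a).erase b).card = 2 := by
    rw [Finset.card_erase_of_mem (Finset.mem_erase.2 ⟨hab.symm, by simp [hO, hb]⟩),
      Finset.card_erase_of_mem (by simp [hO, ha]), h.card_supp]
  obtain ⟨c, e, hce, hOe⟩ := Finset.card_eq_two.1 hOab
  have hcm : c ∈ (O.erase a).erase b := by rw [hOe]; simp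
  have hem : e ∈ (O.erase a).erase b := by rw [hOe]; simp
  simp only [hO, Finset.mem_erase, Finset.mem_filter, Finset.mem_univ, true_and] at hcm hem
  obtain ⟨hcb, hca, hc⟩ := hcm
  obtain ⟨heb, hea, he⟩ := hem
  have hOmem : ∀ i, d 4 i ≠ 0 → i = a ∨ i = b ∨ i = c ∨ i = e := fun i hi => by
    by_cases h1 : i = a
    · exact Or.inl h1
    by_cases h2 : i = b
    · exact Or.inr (Or.inl h2)
    have : i ∈ (O.erase a).erase b := by simp [hO, h1, h2, hi]
    rw [hOe] at this
    simp only [Finset.mem_insert, Finset.mem_singleton] at this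
    tauto
  have hxc : x ≠ c := fun e' => hc (e' ▸ hw.x_out)
  have hxe : x ≠ e := fun e' => he (e' ▸ hw.x_out)
  -- the middle values
  have hY : ∀ i, midVal 4 d i = d 4 i + 2 * (d 2 i - d 1 i - d 3 i) := fun i => by
    rw [midVal, show Finset.Ico 1 4 = ({1, 2, 3} : Finset ℕ) from rfl,
      Finset.sum_insert (by decide), Finset.sum_insert (by decide), Finset.sum_singleton]
    ring
  have hodd : ∀ i, d 4 i ≠ 0 → 1 ≤ midVal 4 d i ^ 2 := fun i hi => by
    have := (h.odd_mid_iff i).2 hi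
    have h0 : midVal 4 d i ≠ 0 := fun h0 => by simp [h0] at this
    have : 0 < midVal 4 d i ^ 2 := by positivity
    omega
  have hO4 : (4 : ℤ) ≤ ∑ i ∈ O, midVal 4 d i ^ 2 := by
    have := Finset.card_nsmul_le_sum O (fun i => midVal 4 d i ^ 2) 1
      fun i hi => hodd i (Finset.mem_filter.1 hi).2
    rwa [h.card_supp] at this
  -- nothing else
  have hall : ∀ i, i = a ∨ i = b ∨ i = c ∨ i = e ∨ i = x := by
    intro i
    by_cases hi : d 4 i ≠ 0
    · rcases hOmem i hi with r | r | r | r <;> simp [r]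
    by_contra hcon
    push Not at hcon hi
    have h4 : (4 : ℤ) ∣ midVal 4 d i := by
      have hPi : i ∉ P := fun hP => hw.supp i hP hi
      have h0 := huo i hcon.1 hcon.2.1
      rw [hY, hi, hw.eq_zero i hPi hcon.2.2.2.2]
      omega
    have h16 : 16 ≤ midVal 4 d i ^ 2 := by
      obtain ⟨t, ht⟩ := h4
      have ht0 : t ≠ 0 := fun h0 => h.ne_zero i (by rw [ht, h0, mul_zero])
      have : 0 < t ^ 2 := by positivity
      rw [ht, mul_pow]
      omega
    have hs := h.sum_split
    have hle := Finset.single_le_sum (s := Finset.univ.filter fun i => ¬ d 4 i ≠ 0)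
      (fun j _ => sq_nonneg (midVal 4 d j)) (a := i) (by simp [hi])
    push_cast at hs
    linarith
  have huniv : (Finset.univ : Finset ι) = {a, b, c, e, x} :=
    (Finset.eq_univ_iff_forall.2 fun i => by simpa using hall i).symm
  have hsum : ∀ {R : Type} [CommRing R] (f : ι → R), ∑ i, f i = f a + f b + f c + f e + f x := by
    intro R _ f
    rw [huniv, Finset.sum_insert (by simp [hab, hca.symm, hea.symm, hxa.symm]),
      Finset.sum_insert (by simp [hcb.symm, heb.symm, hxb.symm]),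
      Finset.sum_insert (by simp [hce, hxc.symm]), Finset.sum_insert (by simp [hxe.symm]),
      Finset.sum_singleton]
    ring
  have hvc := (h.v_small c).resolve_left hc
  have hve := (h.v_small e).resolve_left he
  have hvx : d 4 x = 0 := hw.x_out
  -- the sum over the pair
  obtain ⟨κ, hκ, hpair⟩ : ∃ κ : ℤ, (κ = 1 ∨ κ = -1) ∧
      ((κ = 1 ∧ ∀ i, i ∈ P ↔ i = a ∨ i = b) ∨ (κ = -1 ∧ ∀ i, i ∈ P ↔ i = c ∨ i = e)) := by
    by_cases haP : a ∈ P
    · refine ⟨1, Or.inl rfl, Or.inl ⟨rfl, fun i => ?_⟩⟩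
      have : ({a, b} : Finset ι) = P := Finset.eq_of_subset_of_card_le
        (fun j hj => by
          simp only [Finset.mem_insert, Finset.mem_singleton] at hj
          rcases hj with rfl | rfl
          exacts [haP, hPab.1 haP])
        (by rw [hw.card, Finset.card_pair hab])
      rw [← this]; simp
    · refine ⟨-1, Or.inr rfl, Or.inr ⟨rfl, fun i => ?_⟩⟩
      have : P = ({c, e} : Finset ι) := Finset.eq_of_subset_of_card_le
        (fun j hj => by
          have := hOmem j (hw.supp j hj)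
          simp only [Finset.mem_insert, Finset.mem_singleton]
          rcases this with rfl | rfl | r | r
          exacts [absurd hj haP, absurd hj fun hh => haP (hPab.2 hh), Or.inl r, Or.inr r])
        (by rw [hw.card, Finset.card_pair hce])
      rw [this]; simp
  have hS2 : (s : ℂ) * s = 1 := by exact_mod_cast congrArg (fun z : ℤ => (z : ℂ)) (sq_eq_one_of_sign hw.sign)
  have hsqC : ∀ {i}, (d 4 i = 1 ∨ d 4 i = -1) → (d 4 i : ℂ) * d 4 i = 1 := fun {i} hi => by
    exact_mod_cast congrArg (fun z : ℤ => (z : ℂ)) (sq_eq_one_of_sign hi)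
  -- the equations satisfied by a vector orthogonal to the coordinates
  have heqs : ∀ R : ι → ℂ, (∀ k, 1 ≤ k → k ≤ 4 → ∑ i, R i * (d k i : ℂ) = 0) →
      (d 4 b : ℂ) * R b = d 4 a * R a ∧
      (d 4 c : ℂ) * R c + d 4 e * R e = -(2 * (d 4 a * R a)) ∧
      (s : ℂ) * R x = -(2 * κ * (d 4 a * R a)) ∧
      ∑ i, R i * (midVal 4 d i : ℂ) = 0 := by
    intro R hR
    have h4 := hR 4 (by norm_num) le_rfl
    rw [hsum] at h4
    rw [hvx, Int.cast_zero, mul_zero, add_zero] at h4
    have h13 : ∑ i, ((d 1 i - d 3 i : ℤ) : ℂ) * R i = 0 := by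
      rw [Finset.sum_congr rfl fun i _ => show ((d 1 i - d 3 i : ℤ) : ℂ) * R i =
        R i * (d 1 i : ℂ) - R i * (d 3 i : ℂ) by push_cast; ring, Finset.sum_sub_distrib,
        hR 1 le_rfl (by norm_num), hR 3 (by norm_num) (by norm_num), sub_self]
    rw [sum_pair_supp (f := fun i => ((d 1 i - d 3 i : ℤ) : ℂ)) hab
      (fun i h1 h2 => by rw [huo i h1 h2, Int.cast_zero]) R] at h13
    have hb' : (d 4 b : ℂ) * R b = d 4 a * R a := by
      have huvC : ((d 1 a - d 3 a : ℤ) : ℂ) * d 4 a + ((d 1 b - d 3 b : ℤ) : ℂ) * d 4 b = 0 := by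
        exact_mod_cast congrArg (fun z : ℤ => (z : ℂ)) huv
      have hub2 : ((d 1 b - d 3 b : ℤ) : ℂ) * ((d 1 b - d 3 b : ℤ) : ℂ) = 1 := by
        exact_mod_cast congrArg (fun z : ℤ => (z : ℂ)) (sq_eq_one_of_sign hub)
      linear_combination ((d 1 b - d 3 b : ℤ) : ℂ) * d 4 b * h13 -
        ((d 1 b - d 3 b : ℤ) : ℂ) * d 4 b * d 4 a * R a * huvC +
        ((d 1 a - d 3 a : ℤ) : ℂ) * ((d 1 b - d 3 b : ℤ) : ℂ) * d 4 b * R a * (hsqC hva) +
        (-(d 4 b * R b) + d 4 a * R a * (d 4 b * d 4 b)) * hub2 +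
        d 4 a * R a * (hsqC hvb)
    have hce' : (d 4 c : ℂ) * R c + d 4 e * R e = -(2 * (d 4 a * R a)) := by
      linear_combination h4 - hb'
    refine ⟨hb', hce', ?_, ?_⟩
    · have h2 : (∑ i ∈ P, (d 4 i : ℂ) * R i) + (s : ℂ) * R x = 0 := by
        rw [← hw.dot R, ← hR 2 (by norm_num) (by norm_num)]
        exact Finset.sum_congr rfl fun i _ => mul_comm _ _
      rcases hpair with ⟨rfl, hP⟩ | ⟨rfl, hP⟩
      · rw [show P = {a, b} from Finset.ext fun i => by simp [hP], Finset.sum_pair hab] at h2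
        push_cast
        linear_combination h2 - hb'
      · rw [show P = {c, e} from Finset.ext fun i => by simp [hP], Finset.sum_pair hce] at h2
        push_cast
        linear_combination h2 - hce'
    · have h1 := hR 1 le_rfl (by norm_num)
      have h2 := hR 2 (by norm_num) (by norm_num)
      have h3 := hR 3 (by norm_num) (by norm_num)
      have h4 := hR 4 (by norm_num) le_rfl
      rw [Finset.sum_congr rfl fun i _ => show R i * (midVal 4 d i : ℂ) =
        R i * (d 4 i : ℂ) + 2 * (R i * (d 2 i : ℂ)) - 2 * (R i * (d 1 i : ℂ)) -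
          2 * (R i * (d 3 i : ℂ)) by rw [hY i]; push_cast; ring]
      simp only [Finset.sum_add_distrib, Finset.sum_sub_distrib, ← Finset.mul_sum, h1, h2, h3, h4]
      ring
  -- the middle values themselves
  have hYorth : ∀ k, 1 ≤ k → k ≤ 4 → k % 2 = 0 → ∑ i, midVal 4 d i * d k i = 0 :=
    fun k k1 k2 k3 => by
      rw [h.dot_mid k k1 k2]
      split_ifs
      · rfl
      · rw [show ((-1 : ℤ)) ^ k = 1 from (Nat.even_iff.2 k3).neg_one_pow]; ring
  set y : ι → ℤ := fun i => d 4 i * midVal 4 d i with hy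
  have hyb : y b = y a := by
    have h13 : ∑ i, (d 1 i - d 3 i) * midVal 4 d i = 0 := by
      rw [Finset.sum_congr rfl fun i _ => show (d 1 i - d 3 i) * midVal 4 d i =
        midVal 4 d i * d 1 i - midVal 4 d i * d 3 i by ring, Finset.sum_sub_distrib,
        h.dot_mid 1 le_rfl (by norm_num), h.dot_mid 3 (by norm_num) (by norm_num)]
      norm_num
    rw [sum_pair_supp hab huo] at h13
    simp only [hy]
    linear_combination (d 1 b - d 3 b) * d 4 b * h13 -
      (d 1 b - d 3 b) * d 4 b * d 4 a * midVal 4 d a * huv +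
      (d 1 a - d 3 a) * (d 1 b - d 3 b) * d 4 b * midVal 4 d a * sq_eq_one_of_sign hva +
      (-(d 4 b * midVal 4 d b) + d 4 a * midVal 4 d a * (d 4 b * d 4 b)) * sq_eq_one_of_sign hub +
      d 4 a * midVal 4 d a * sq_eq_one_of_sign hvb
  have h4Y : y a + y b + y c + y e = 0 := by
    have := hYorth 4 (by norm_num) le_rfl rfl
    rw [hsum, hvx, mul_zero, add_zero] at this
    simp only [hy]
    linarith
  have hYx : s * midVal 4 d x = -(2 * κ * y a) := by
    have h2 := hYorth 2 (by norm_num) (by norm_num) rfl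
    have h2' : (∑ i ∈ P, d 4 i * midVal 4 d i) + s * midVal 4 d x = 0 := by
      have := hw.dot (R := ℤ) (fun i => midVal 4 d i)
      simp only [Int.cast_id] at this
      rw [← this, ← h2]
      exact Finset.sum_congr rfl fun i _ => mul_comm _ _
    rcases hpair with ⟨rfl, hP⟩ | ⟨rfl, hP⟩
    · rw [show P = {a, b} from Finset.ext fun i => by simp [hP], Finset.sum_pair hab] at h2'
      simp only [hy] at hyb ⊢
      linarith
    · rw [show P = {c, e} from Finset.ext fun i => by simp [hP], Finset.sum_pair hce] at h2'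
      simp only [hy] at h4Y hyb ⊢
      linarith
  have hysq : ∀ i, d 4 i ≠ 0 → y i ^ 2 = midVal 4 d i ^ 2 := fun i hi => by
    simp only [hy, mul_pow]
    rcases (h.v_small i).resolve_left hi with r | r <;> rw [r] <;> ring
  have hsq16 : 6 * y a ^ 2 + y c ^ 2 + y e ^ 2 = 16 := by
    have hs := h.mid_sq
    rw [hsum, ← hysq a ha, ← hysq b hb, ← hysq c hc, ← hysq e he, hyb] at hs
    have hx2 : midVal 4 d x ^ 2 = 4 * y a ^ 2 := by
      have := congrArg (fun z : ℤ => z ^ 2) hYx
      simp only [mul_pow, neg_sq] at this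
      rw [pow_two s, sq_eq_one_of_sign hw.sign, one_mul, pow_two κ, sq_eq_one_of_sign hκ] at this
      linarith
    push_cast at hs
    linarith
  have hya : y a = 1 ∨ y a = -1 := by
    have h1 := hysq a ha
    have h2 := hodd a ha
    have h3 : y a ^ 2 ≤ 2 := by nlinarith [sq_nonneg (y c), sq_nonneg (y e)]
    have : y a ≤ 1 := by nlinarith
    have : -1 ≤ y a := by nlinarith
    have : y a ≠ 0 := fun h0 => by rw [h0] at h1; omega
    omega
  have hroot : (y c = y a ∧ y e = -3 * y a) ∨ (y c = -3 * y a ∧ y e = y a) := by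
    have h0 : (y c + 3 * y a) * (y c - y a) = 0 := by
      have h1 : y e = -2 * y a - y c := by linarith
      rw [h1] at hsq16
      rcases hya with r | r <;> rw [r] at hsq16 ⊢ <;> linarith
    rcases mul_eq_zero.1 h0 with r | r
    · right; constructor <;> linarith
    · left; constructor <;> linarith
  -- naming the place with the value three times as large
  obtain ⟨g, t, hgt, hg, ht, hyg, hyt, hsumG⟩ : ∃ g t, ((g = c ∧ t = e) ∨ (g = e ∧ t = c)) ∧
      (d 4 g = 1 ∨ d 4 g = -1) ∧ (d 4 t = 1 ∨ d 4 t = -1) ∧ y g = y a ∧ y t = -3 * y a ∧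
      ∀ {R : Type} [CommRing R] (f : ι → R), ∑ i, f i = f a + f b + f g + f t + f x := by
    rcases hroot with ⟨r1, r2⟩ | ⟨r1, r2⟩
    · exact ⟨c, e, Or.inl ⟨rfl, rfl⟩, hvc, hve, r1, r2, fun f => hsum f⟩
    · exact ⟨e, c, Or.inr ⟨rfl, rfl⟩, hve, hvc, r2, r1, fun f => by rw [hsum f]; ring⟩
  have hYC : ∀ {i}, (d 4 i = 1 ∨ d 4 i = -1) → (midVal 4 d i : ℂ) = (d 4 i : ℂ) * (y i : ℂ) :=
    fun {i} hi => by
      simp only [hy]; push_cast
      linear_combination -(midVal 4 d i : ℂ) * hsqC hi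
  have hsol : ∀ R : ι → ℂ, (∀ k, 1 ≤ k → k ≤ 4 → ∑ i, R i * (d k i : ℂ) = 0) →
      R a = d 4 a * (d 4 a * R a) ∧ R b = d 4 b * (d 4 a * R a) ∧
      R g = d 4 g * (-3 * (d 4 a * R a)) ∧ R t = d 4 t * (d 4 a * R a) ∧
      R x = -2 * κ * s * (d 4 a * R a) := by
    intro R hR
    obtain ⟨e1, e2, e3, e4⟩ := heqs R hR
    set r := (d 4 a : ℂ) * R a with hr
    have e2' : (d 4 g : ℂ) * R g + d 4 t * R t = -(2 * r) := by
      rcases hgt with ⟨rfl, rfl⟩ | ⟨rfl, rfl⟩
      · exact e2
      · linear_combination e2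
    rw [hsumG] at e4
    have hyaC : (y a : ℂ) * y a = 1 := by
      exact_mod_cast congrArg (fun z : ℤ => (z : ℂ)) (sq_eq_one_of_sign hya)
    have hxy : R x * (midVal 4 d x : ℂ) = 4 * r * y a := by
      have hYxC : (s : ℂ) * (midVal 4 d x : ℂ) = -(2 * κ * y a) := by
        exact_mod_cast congrArg (fun z : ℤ => (z : ℂ)) hYx
      have hκC : (κ : ℂ) * κ = 1 := by
        exact_mod_cast congrArg (fun z : ℤ => (z : ℂ)) (sq_eq_one_of_sign hκ)
      linear_combination (-(R x * (midVal 4 d x : ℂ))) * hS2 + (s : ℂ) * (midVal 4 d x : ℂ) * e3 +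
        (-2 * κ * r) * hYxC + 4 * r * y a * hκC
    rw [hYC hva, hYC hvb, hYC hg, hYC ht, hxy, hyb, hyg, hyt] at e4
    push_cast at e4
    have e5 : r + r + d 4 g * R g - 3 * (d 4 t * R t) + 4 * r = 0 := by
      have e6 : (y a : ℂ) * (r + r + d 4 g * R g - 3 * (d 4 t * R t) + 4 * r) = 0 := by
        linear_combination e4 - (y a : ℂ) * e1
      exact (mul_eq_zero.1 e6).resolve_left (fun h0 => by rw [h0, zero_mul] at hyaC; exact zero_ne_one hyaC)
    refine ⟨?_, ?_, ?_, ?_, ?_⟩
    · linear_combination -(R a) * hsqC hva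
    · linear_combination -(R b) * hsqC hvb + (d 4 b : ℂ) * e1
    · linear_combination -(R g) * hsqC hg + (d 4 g : ℂ) * ((3 / 4 : ℂ) * e2' + (1 / 4 : ℂ) * e5)
    · linear_combination -(R t) * hsqC ht + (d 4 t : ℂ) * ((1 / 4 : ℂ) * e2' - (1 / 4 : ℂ) * e5)
    · linear_combination -(R x) * hS2 + (s : ℂ) * e3
  refine ⟨rfl, fun X hX hXd => ?_⟩
  have hXC : ∀ k, 1 ≤ k → k ≤ 4 → ∑ i, (X i : ℂ) * (d k i : ℂ) = 0 := fun k k1 k2 => by
    exact_mod_cast congrArg (fun z : ℤ => (z : ℂ)) (hXd k k1 k2)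
  obtain ⟨x1, x2, x3, x4, x5⟩ := hsol _ hXC
  set T := (d 4 a : ℂ) * (X a : ℂ) with hT
  have hXa : (X a : ℂ) ≠ 0 := Int.cast_ne_zero.2 (hX a).ne'
  have hT0 : T ≠ 0 := mul_ne_zero (Int.cast_ne_zero.2 (by rcases hva with r | r <;> omega)) hXa
  refine ⟨fun R hR hRX => ?_, a, d 4 a, (h.odd_mid_iff a).2 ha, hva, ?_⟩
  · obtain ⟨r1, r2, r3, r4, r5⟩ := hsol R hR
    set r := (d 4 a : ℂ) * R a
    have key : ∀ i, R i = r / T * (X i : ℂ) := fun i => by
      rcases hall i with rfl | rfl | e' | e' | rfl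
      · rw [r1, x1]; field_simp
      · rw [r2, x2]; field_simp
      · rcases hgt with ⟨rfl, rfl⟩ | ⟨rfl, rfl⟩
        · rw [e', r3, x3]; field_simp
        · rw [e', r4, x4]; field_simp
      · rcases hgt with ⟨rfl, rfl⟩ | ⟨rfl, rfl⟩
        · rw [e', r4, x4]; field_simp
        · rw [e', r3, x3]; field_simp
      · rw [r5, x5]; field_simp
    rw [Finset.sum_congr rfl fun i _ => show R i * (X i : ℂ) = r / T * ((X i : ℂ) * X i) by
      rw [key i, mul_assoc], ← Finset.mul_sum] at hRX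
    have hne : ∑ i, (X i : ℂ) * X i ≠ 0 := by
      have : (0 : ℤ) < ∑ i, X i * X i :=
        Finset.sum_pos (fun i _ => mul_pos (hX i) (hX i)) ⟨a, Finset.mem_univ _⟩
      exact_mod_cast this.ne'
    intro i
    rw [key i, (mul_eq_zero.1 hRX).resolve_right hne, zero_mul]
  · rw [hsumG, hvx, Int.cast_zero, mul_zero, zero_div, add_zero]
    have hsqY : ∀ {i}, (d 4 i = 1 ∨ d 4 i = -1) →
        (midVal 4 d i : ℂ) ^ 2 = (y i : ℂ) * (y i : ℂ) := fun {i} hi => by
      rw [hYC hi]; linear_combination ((y i : ℂ) * y i) * hsqC hi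
    have hyaC : (y a : ℂ) * y a = 1 := by
      exact_mod_cast congrArg (fun z : ℤ => (z : ℂ)) (sq_eq_one_of_sign hya)
    rw [hsqY hva, hsqY hvb, hsqY hg, hsqY ht, hyb, hyg, hyt, x2, x3, x4, hT]
    have hvb0 : (d 4 b : ℂ) ≠ 0 := Int.cast_ne_zero.2 hb
    have hvg0 : (d 4 g : ℂ) ≠ 0 := Int.cast_ne_zero.2 (by rcases hg with r | r <;> omega)
    have hvt0 : (d 4 t : ℂ) ≠ 0 := Int.cast_ne_zero.2 (by rcases ht with r | r <;> omega)
    have hva0 : (d 4 a : ℂ) ≠ 0 := Int.cast_ne_zero.2 ha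
    push_cast
    field_simp
    linear_combination 32 * hyaC + (3 * (y a : ℂ) * y a - 32) * (hsqC hva)

/-- The configuration with all vectors `d 1 - d j` outside the odd places. -/
theorem le_out_of_outside
    (hu : ∀ a, a % 2 = 1 → 3 ≤ a → a < N → ∀ i, d N i ≠ 0 → d 1 i - d a i = 0) :
    N ≤ (Finset.univ.filter fun i => ¬ d N i ≠ 0).card + 2 := by
  set T := Finset.univ.filter fun i => ¬ d N i ≠ 0 with hT
  obtain ⟨l, hl⟩ := h.N_even
  have h2 := h.two_le
  by_cases hl1 : l ≤ 1
  · omega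
  choose P X s hw using fun j : Fin (l - 1) =>
    h.exists_w (j := 2 * (j : ℕ) + 2) (by omega) (by omega)
  let U : Fin (l - 1) → ι → ℤ := fun k i => d 1 i - d (2 * (k : ℕ) + 3) i
  have hUg : ∀ k k', ∑ i, U k i * U k' i = if k = k' then 2 else 1 := fun k k' => by
    simp only [U]
    rw [h.u_dot (by omega) (by omega) (by omega) (by omega) (by omega) (by omega)]
    simp only [Fin.ext_iff]
    split_ifs <;> omega
  -- the places `X j` avoid the supports
  have hUX : ∀ k j, U k (X j) = 0 := by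
    intro k j
    have h0 := h.u_dot_w (a := 2 * (k : ℕ) + 3) (j := 2 * (j : ℕ) + 2) (by omega) (by omega)
      (by omega) (by omega) (by omega) (by omega)
    have h1 := (hw j).dot (R := ℤ) (fun i => d 1 i - d (2 * (k : ℕ) + 3) i)
    simp only [Int.cast_id] at h1
    rw [h0, Finset.sum_eq_zero fun i hi => by
      rw [hu _ (by omega) (by omega) (by omega) i ((hw j).supp i hi), mul_zero], zero_add] at h1
    exact (mul_eq_zero.1 h1.symm).resolve_left (by rcases (hw j).sign with e | e <;> omega)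
  set Xs := Finset.univ.image X with hXs
  have hXT : Xs ⊆ T := fun i hi => by
    obtain ⟨j, -, rfl⟩ := Finset.mem_image.1 hi
    simp [hT, (hw j).x_out]
  have hindep : l - 1 ≤ (T \ Xs).card := by
    have := card_le_of_gram U (T \ Xs) (fun k i hi => ?_) hUg
    · simpa using this
    by_cases hiX : i ∈ Xs
    · obtain ⟨j, -, rfl⟩ := Finset.mem_image.1 hiX
      exact hUX k j
    · refine hu _ (by omega) (by omega) (by omega) i ?_
      by_contra h0
      exact hi (Finset.mem_sdiff.2 ⟨by simp [hT, h0], hiX⟩)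
  rw [Finset.card_sdiff_of_subset hXT] at hindep
  by_cases hinj : Function.Injective X
  · rw [hXs, Finset.card_image_of_injective _ hinj, Finset.card_univ, Fintype.card_fin] at hindep
    have : l - 1 ≤ T.card := by omega
    have hXc := Finset.card_le_card hXT
    rw [hXs, Finset.card_image_of_injective _ hinj, Finset.card_univ, Fintype.card_fin] at hXc
    omega
  -- two pairs differ
  have hdot : ∀ j j', j ≠ j' →
      ((P j ∩ P j').card : ℤ) + (if X j = X j' then s j * s j' else 0) = 2 := by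
    intro j j' hne
    have h0 : ∑ i, d (2 * (j : ℕ) + 2) i * d (2 * (j' : ℕ) + 2) i = 2 := by
      rw [h.gram _ _ (by omega) (by omega) (by omega) (by omega),
        if_neg (fun hh => hne (Fin.ext (by omega))), if_neg (by omega)]
      ring
    have h1 := (hw j).dot (R := ℤ) (fun i => d (2 * (j' : ℕ) + 2) i)
    simp only [Int.cast_id] at h1
    rw [h0] at h1
    rw [h1, Finset.card_eq_sum_ones, ← Finset.filter_mem_eq_inter, Finset.sum_filter, Nat.cast_sum]
    congr 1
    · refine Finset.sum_congr rfl fun i hi => ?_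
      by_cases hi' : i ∈ P j'
      · rw [if_pos hi', (hw j').eq_P i hi',
          sq_eq_one_of_sign ((h.v_small i).resolve_left ((hw j).supp i hi))]
        rfl
      · rw [if_neg hi', (hw j').eq_zero i hi' (fun e => (hw j).supp i hi (e ▸ (hw j').x_out)),
          mul_zero]
        rfl
    · by_cases hX : X j = X j'
      · rw [if_pos hX, hX, (hw j').eq_x]
      · rw [if_neg hX, (hw j').eq_zero _ (fun hP => (hw j').supp _ hP (hw j).x_out) hX, mul_zero]
  have hsame : ∀ j j', j ≠ j' → X j ≠ X j' → P j = P j' := by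
    intro j j' hne hX
    have := hdot j j' hne
    rw [if_neg hX, add_zero] at this
    have hc : (P j ∩ P j').card = 2 := by omega
    have e1 := Finset.eq_of_subset_of_card_le (s := P j ∩ P j') (t := P j) Finset.inter_subset_left
      (by rw [hc, (hw j).card])
    have e2 := Finset.eq_of_subset_of_card_le (s := P j ∩ P j') (t := P j') Finset.inter_subset_right
      (by rw [hc, (hw j').card])
    exact e1.symm.trans e2
  have hmeet : ∀ j j', j ≠ j' → X j = X j' → (P j ∩ P j').card = 1 := by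
    intro j j' hne hX
    have := hdot j j' hne
    rw [if_pos hX] at this
    have hle := Finset.card_le_card (Finset.inter_subset_left (s₁ := P j) (s₂ := P j'))
    rw [(hw j).card] at hle
    rcases mul_sign (hw j).sign (hw j').sign with e | e <;> rw [e] at this <;> omega
  simp only [Function.Injective, not_forall] at hinj
  obtain ⟨j₁, j₂, hX12, hne12⟩ := hinj
  have hne' : P j₁ ≠ P j₂ := fun e => by
    have := hmeet j₁ j₂ hne12 hX12
    rw [e, Finset.inter_self, (hw j₂).card] at this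
    omega
  have hXall : ∀ j, X j = X j₁ := by
    intro j
    by_contra hj
    have h1 : j ≠ j₁ := fun e => hj (by rw [e])
    have h2 : j ≠ j₂ := fun e => hj (by rw [e, hX12])
    exact hne' ((hsame j j₁ h1 hj).symm.trans (hsame j j₂ h2 (by rwa [← hX12])))
  have hmeet' : ∀ j j', j ≠ j' → (P j ∩ P j').card = 1 := fun j j' hne =>
    hmeet j j' hne (by rw [hXall j, hXall j'])
  -- there are three of them
  have hl3 : l = 4 := by
    have hl2 : 2 ≤ l - 1 := by
      have := j₁.isLt; have := j₂.isLt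
      have : (j₁ : ℕ) ≠ j₂ := fun e => hne12 (Fin.ext e)
      omega
    have hlpow : l = 2 ^ (m - 1) := by
      have := h.hN
      rw [show m = m - 1 + 1 by have := h.hm; omega, pow_succ] at this
      omega
    by_contra hl4
    have hl8 : 8 ≤ l := by
      rcases (show m - 1 ≤ 2 ∨ 3 ≤ m - 1 by omega) with e | e
      · interval_cases (m - 1) <;> omega
      · rw [hlpow]
        calc 8 = 2 ^ 3 := rfl
          _ ≤ _ := Nat.pow_le_pow_right two_pos e
    set O := Finset.univ.filter fun i => d N i ≠ 0 with hO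
    let f : O ≃ Fin 4 := Fintype.equivFinOfCardEq (by rw [Fintype.card_coe, hO, h.card_supp])
    let Q : Fin (l - 1) → Finset (Fin 4) := fun j =>
      ((P j).subtype (· ∈ O)).map f.toEmbedding
    have hPO : ∀ j, P j ⊆ O := fun j i hi => by simp [hO, (hw j).supp i hi]
    have hQc : ∀ S : Finset ι, S ⊆ O → ((S.subtype (· ∈ O)).map f.toEmbedding).card = S.card :=
      fun S hS => by
        rw [Finset.card_map, Finset.card_subtype, Finset.filter_true_of_mem hS]
    have hQmem : ∀ j, Q j ∈ (Finset.univ : Finset (Fin 4)).powersetCard 2 := fun j =>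
      Finset.mem_powersetCard.2 ⟨Finset.subset_univ _, (hQc _ (hPO j)).trans (hw j).card⟩
    have hQi : ∀ j j', j ≠ j' → (Q j ∩ Q j').card = 1 := fun j j' hne => by
      rw [← hmeet' j j' hne, ← hQc _ (Finset.inter_subset_left.trans (hPO j))]
      simp only [Q, ← Finset.map_inter]
      congr 2
      ext i; simp
    exact four_pairs _ (hQmem ⟨0, by omega⟩) _ (hQmem ⟨1, by omega⟩) _ (hQmem ⟨2, by omega⟩) _
      (hQmem ⟨3, by omega⟩) (hQi _ _ (by simp [Fin.ext_iff])) (hQi _ _ (by simp [Fin.ext_iff]))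
      (hQi _ _ (by simp [Fin.ext_iff])) (hQi _ _ (by simp [Fin.ext_iff]))
      (hQi _ _ (by simp [Fin.ext_iff])) (hQi _ _ (by simp [Fin.ext_iff]))
  -- the weights of the three pairs
  exfalso
  subst hl3
  have hN8 : N = 8 := by omega
  subst hN8
  let p : Fin (4 - 1) → ι → ℤ := fun j i => if i ∈ P j then 1 else 0
  let cnt : ι → ℤ := fun i => p 0 i + p 1 i + p 2 i
  set O := Finset.univ.filter fun i => d 8 i ≠ 0 with hO
  have hPO : ∀ j, P j ⊆ O := fun j i hi => by simp [hO, (hw j).supp i hi]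
  have hp : ∀ j j', ∑ i ∈ O, p j i * p j' i = ((P j ∩ P j').card : ℤ) := fun j j' => by
    rw [Finset.sum_congr rfl fun i _ => show p j i * p j' i =
      if i ∈ P j ∧ i ∈ P j' then 1 else 0 by
        by_cases e1 : i ∈ P j <;> by_cases e2 : i ∈ P j' <;>
          simp only [p, e1, e2, if_true, if_false, and_self, and_true, and_false, false_and,
            true_and, mul_one, mul_zero, zero_mul],
      Finset.sum_boole, Nat.cast_inj]
    congr 1
    ext i
    simp only [Finset.mem_filter, Finset.mem_inter]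
    exact ⟨fun hh => ⟨by tauto, by tauto⟩, fun hh => ⟨hPO j hh.1, by tauto⟩⟩
  have hp2 : ∀ j, ∑ i ∈ O, p j i * p j i = 2 := fun j => by
    rw [hp, Finset.inter_self, (hw j).card]; rfl
  have hp1 : ∀ j j', j ≠ j' → ∑ i ∈ O, p j i * p j' i = 1 := fun j j' hne => by
    rw [hp, hmeet' j j' hne]; rfl
  have hcc : ∑ i ∈ O, cnt i * (3 - cnt i) = 6 := by
    have hlin : ∀ j i, p j i = p j i * p j i := fun j i => by simp only [p]; split_ifs <;> rfl
    rw [Finset.sum_congr rfl fun i _ => show cnt i * (3 - cnt i) =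
      2 * (p 0 i * p 0 i) + 2 * (p 1 i * p 1 i) + 2 * (p 2 i * p 2 i) - 2 * (p 0 i * p 1 i) -
        2 * (p 0 i * p 2 i) - 2 * (p 1 i * p 2 i) by
      simp only [cnt]; rw [← hlin 0, ← hlin 1, ← hlin 2]
      have := hlin 0 i; have := hlin 1 i; have := hlin 2 i
      linarith]
    simp only [Finset.sum_add_distrib, Finset.sum_sub_distrib, ← Finset.mul_sum, hp2]
    rw [hp1 0 1 (by decide), hp1 0 2 (by decide), hp1 1 2 (by decide)]
    rfl
  have hY : ∀ i ∈ O, 1 + 4 * (cnt i * (3 - cnt i)) ≤ midVal 8 d i ^ 2 := by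
    intro i hi
    have hi' := (Finset.mem_filter.1 hi).2
    have hwv : ∀ (j : Fin (4 - 1)), d (2 * (j : ℕ) + 2) i = p j i * d 8 i := fun j => by
      by_cases hP : i ∈ P j
      · simp [p, hP, (hw j).eq_P i hP]
      · simp [p, hP, (hw j).eq_zero i hP fun e => hi' (e ▸ (hw j).x_out)]
    have hu3 := hu 3 rfl le_rfl (by norm_num) i hi'
    have hu5 := hu 5 rfl (by norm_num) (by norm_num) i hi'
    have hu7 := hu 7 rfl (by norm_num) (by norm_num) i hi'
    have e2 : d 2 i = p 0 i * d 8 i := hwv 0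
    have e4 : d 4 i = p 1 i * d 8 i := hwv 1
    have e6 : d 6 i = p 2 i * d 8 i := hwv 2
    have hYv : midVal 8 d i = d 8 i * (1 + 2 * cnt i) - 8 * d 1 i := by
      rw [midVal, show Finset.Ico 1 8 = ({1, 2, 3, 4, 5, 6, 7} : Finset ℕ) from rfl]
      simp [Finset.sum_insert]
      rw [e2, e4, e6]
      simp only [cnt]
      linear_combination 2 * hu3 + 2 * hu5 + 2 * hu7
    have hc01 : ∀ j, p j i = 0 ∨ p j i = 1 := fun j => by simp only [p]; split_ifs <;> simp
    have h0 := h.ne_zero i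
    rw [hYv] at h0 ⊢
    rcases (h.v_small i).resolve_left hi' with e | e <;> rw [e] at h0 ⊢ <;>
      rcases hc01 0 with f0 | f0 <;> rcases hc01 1 with f1 | f1 <;> rcases hc01 2 with f2 | f2 <;>
      simp only [cnt, f0, f1, f2] at h0 ⊢ <;>
      rcases (show d 1 i ≤ -1 ∨ d 1 i = 0 ∨ 1 ≤ d 1 i by omega) with g | g | g <;> nlinarith
  have hbig : 28 ≤ ∑ i ∈ O, midVal 8 d i ^ 2 := by
    have := Finset.sum_le_sum hY
    rw [Finset.sum_add_distrib, Finset.sum_const, h.card_supp, ← Finset.mul_sum, hcc] at this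
    norm_num at this ⊢
    linarith
  have hT4 : 4 ≤ T.card := by
    have hXs1 : Xs = {X j₁} := by
      rw [hXs]
      ext i
      simp only [Finset.mem_image, Finset.mem_univ, true_and, Finset.mem_singleton]
      exact ⟨fun ⟨j, hj⟩ => hj ▸ hXall j, fun hi => ⟨j₁, hi.symm⟩⟩
    have hle := Finset.card_le_card hXT
    rw [hXs1, Finset.card_singleton] at hle hindep
    omega
  have hT16 := Finset.card_nsmul_le_sum T (fun i => midVal 8 d i ^ 2) 4 fun i hi => by
    rcases h.sq_ge_out (not_not.1 (Finset.mem_filter.1 hi).2) with e | e <;> omega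
  have hs := h.sum_split
  rw [← hO, ← hT] at hs
  rw [nsmul_eq_mul] at hT16
  have : (4 : ℤ) ≤ T.card := by exact_mod_cast hT4
  push_cast at hs
  linarith

/-- The dichotomy. -/
theorem dichotomy :
    (Fintype.card ι = N + 3 ∧ (Finset.univ.filter fun i => Odd (midVal N d i)).card = 4 ∧
      ∀ i, |midVal N d i| ≤ 2) ∨ Exceptional N d := by
  have h2 := h.two_le
  -- a vector of the second kind
  have hshape : ∀ a, a % 2 = 1 → 3 ≤ a → a < N → ∃ p r, p ≠ r ∧
      (d 1 p - d a p = 1 ∨ d 1 p - d a p = -1) ∧ (d 1 r - d a r = 1 ∨ d 1 r - d a r = -1) ∧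
      (∀ i, i ≠ p → i ≠ r → d 1 i - d a i = 0) ∧
      (d N p ≠ 0 ↔ d N r ≠ 0) := by
    intro a ha1 ha3 haN
    obtain ⟨p, r, hpr, hp, hr, hout⟩ := norm_two (f := fun i => d 1 i - d a i) (by
      simp only [pow_two]
      rw [h.u_dot ha1 ha3 haN ha1 ha3 haN, if_pos rfl])
    refine ⟨p, r, hpr, hp, hr, hout, ?_⟩
    have h0 := h.u_dot_v ha3 haN
    rw [sum_pair_supp hpr hout] at h0
    constructor
    · intro hn hz
      rw [hz, mul_zero, add_zero] at h0
      rcases mul_eq_zero.1 h0 with e | e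
      · rcases hp with e' | e' <;> omega
      · exact hn e
    · intro hn hz
      rw [hz, mul_zero, zero_add] at h0
      rcases mul_eq_zero.1 h0 with e | e
      · rcases hr with e' | e' <;> omega
      · exact hn e
  by_cases hout : ∀ a, a % 2 = 1 → 3 ≤ a → a < N → ∀ i, d N i ≠ 0 → d 1 i - d a i = 0
  · exact Or.inl (h.conclusion_of_le (h.le_out_of_outside hout))
  right
  push Not at hout
  obtain ⟨a, ha1, ha3, haN, i, hi, hui⟩ := hout
  obtain ⟨p, r, hpr, hp, hr, hzero, hiff⟩ := hshape a ha1 ha3 haN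
  have hin : d N p ≠ 0 ∧ d N r ≠ 0 := by
    rcases (show i = p ∨ i = r by
      by_contra hcon; push Not at hcon; exact hui (hzero i hcon.1 hcon.2)) with rfl | rfl
    · exact ⟨hi, hiff.1 hi⟩
    · exact ⟨hiff.2 hi, hi⟩
  by_cases hN4 : N = 4
  · obtain rfl : a = 3 := by omega
    exact h.exceptional_of_inside hN4 hpr hin.1 hin.2 hp hr hzero
  exfalso
  have hN8 : 8 ≤ N := by
    have := h.hN
    rcases (show m ≤ 2 ∨ 3 ≤ m by omega) with e | e
    · interval_cases m <;> omega
    · rw [h.hN]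
      calc 8 = 2 ^ 3 := rfl
        _ ≤ _ := Nat.pow_le_pow_right two_pos e
  obtain ⟨a', ha1', ha3', haN', haa⟩ : ∃ a', a' % 2 = 1 ∧ 3 ≤ a' ∧ a' < N ∧ a' ≠ a := by
    by_cases e : a = 3
    · exact ⟨5, rfl, by norm_num, by omega, by omega⟩
    · exact ⟨3, rfl, le_rfl, by omega, fun e' => e e'.symm⟩
  obtain ⟨p', r', hpr', hp', hr', hzero', hiff'⟩ := hshape a' ha1' ha3' haN'
  have hdot := h.u_dot ha1 ha3 haN ha1' ha3' haN'
  rw [if_neg haa.symm, sum_pair_supp hpr hzero] at hdot
  have hshare : p = p' ∨ p = r' ∨ r = p' ∨ r = r' := by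
    by_contra hcon
    push Not at hcon
    rw [hzero' p hcon.1 hcon.2.1, hzero' r hcon.2.2.1 hcon.2.2.2] at hdot
    simp at hdot
  have hin' : d N p' ≠ 0 ∧ d N r' ≠ 0 := by
    rcases hshare with e | e | e | e
    · exact ⟨e ▸ hin.1, hiff'.1 (e ▸ hin.1)⟩
    · exact ⟨hiff'.2 (e ▸ hin.1), e ▸ hin.1⟩
    · exact ⟨e ▸ hin.2, hiff'.1 (e ▸ hin.2)⟩
    · exact ⟨hiff'.2 (e ▸ hin.2), e ▸ hin.2⟩
  obtain ⟨P, x, s, hw⟩ := h.exists_w (j := 2) le_rfl (by omega)
  -- both supports lie on one side of the pair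
  have hside : ∀ {a p r : _}, a % 2 = 1 → 3 ≤ a → a < N → p ≠ r →
      (d 1 p - d a p = 1 ∨ d 1 p - d a p = -1) → (d 1 r - d a r = 1 ∨ d 1 r - d a r = -1) →
      (∀ i, i ≠ p → i ≠ r → d 1 i - d a i = 0) → d N p ≠ 0 → d N r ≠ 0 → (p ∈ P ↔ r ∈ P) := by
    intro a p r ha1 ha3 haN hpr hp hr hzero hnp hnr
    have h0 := h.u_dot_w (a := a) (j := 2) ha1 ha3 haN rfl le_rfl (by omega)
    rw [Finset.sum_congr rfl fun i _ => mul_comm (d 2 i) (d 1 i - d a i),
      sum_pair_supp hpr hzero] at h0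
    have hx : ∀ {i}, d N i ≠ 0 → i ≠ x := fun {i} hi e => hi (e ▸ hw.x_out)
    by_cases e1 : p ∈ P <;> by_cases e2 : r ∈ P
    · exact iff_of_true e1 e2
    · rw [hw.eq_P p e1, hw.eq_zero r e2 (hx hnr), mul_zero, add_zero] at h0
      rcases mul_eq_zero.1 h0 with e | e
      · rcases hp with e' | e' <;> omega
      · exact absurd e hnp
    · rw [hw.eq_P r e2, hw.eq_zero p e1 (hx hnp), mul_zero, zero_add] at h0
      rcases mul_eq_zero.1 h0 with e | e
      · rcases hr with e' | e' <;> omega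
      · exact absurd e hnr
    · exact iff_of_false e1 e2
  have hs1 := hside ha1 ha3 haN hpr hp hr hzero hin.1 hin.2
  have hs2 := hside ha1' ha3' haN' hpr' hp' hr' hzero' hin'.1 hin'.2
  -- the supports differ
  have hdiff : ¬ ((p' = p ∨ p' = r) ∧ (r' = p ∨ r' = r)) := by
    rintro ⟨e1, e2⟩
    have hv := h.u_dot_v ha3 haN
    rw [sum_pair_supp hpr hzero] at hv
    have hv' := h.u_dot_v ha3' haN'
    rw [sum_pair_supp hpr' hzero'] at hv'
    have hvp := (h.v_small p).resolve_left hin.1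
    have hvr := (h.v_small r).resolve_left hin.2
    have key : ∀ A B A' B' C E : ℤ, (A = 1 ∨ A = -1) → (B = 1 ∨ B = -1) → (A' = 1 ∨ A' = -1) →
        (B' = 1 ∨ B' = -1) → (C = 1 ∨ C = -1) → (E = 1 ∨ E = -1) → A * C + B * E = 0 →
        A' * C + B' * E = 0 → A * A' + B * B' ≠ 1 := by
      intro A B A' B' C E hA hB hA' hB' _ _ _ _
      rcases hA with rfl | rfl <;> rcases hB with rfl | rfl <;> rcases hA' with rfl | rfl <;>
        rcases hB' with rfl | rfl <;> norm_num
    rcases e1 with rfl | rfl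
    · obtain rfl : r' = r := e2.resolve_left fun e => hpr' e.symm
      exact key _ _ _ _ _ _ hp hr hp' hr' hvp hvr hv hv' hdot
    · obtain rfl : r' = p := e2.resolve_right fun e => hpr' e.symm
      exact key _ _ _ _ _ _ hp hr hr' hp' hvp hvr hv (by rw [add_comm]; exact hv') hdot
  set O := Finset.univ.filter fun i => d N i ≠ 0 with hO
  obtain ⟨u, hu, hup, hur⟩ : ∃ u, (u = p' ∨ u = r') ∧ u ≠ p ∧ u ≠ r := by
    by_contra hcon
    push Not at hcon
    exact hdiff ⟨(em (p' = p)).imp id fun hh => hcon p' (Or.inl rfl) hh,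
      (em (r' = p)).imp id fun hh => hcon r' (Or.inr rfl) hh⟩
  have hall : (p ∈ P ↔ r ∈ P) ∧ (p ∈ P ↔ u ∈ P) := by
    refine ⟨hs1, ?_⟩
    rcases hshare with e | e | e | e <;> rcases hu with rfl | rfl
    all_goals (try subst e) <;> tauto
  have hu0 : d N u ≠ 0 := by rcases hu with rfl | rfl; exacts [hin'.1, hin'.2]
  have hc3 : ({p, r, u} : Finset ι).card = 3 := Finset.card_eq_three.2 ⟨p, r, u, hpr, hup.symm, hur.symm, rfl⟩
  by_cases hpP : p ∈ P
  · have : ({p, r, u} : Finset ι) ⊆ P := fun i hi => by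
      simp only [Finset.mem_insert, Finset.mem_singleton] at hi
      rcases hi with rfl | rfl | rfl
      exacts [hpP, hall.1.1 hpP, hall.2.1 hpP]
    have := Finset.card_le_card this
    rw [hc3, hw.card] at this
    omega
  · have hsub : P ⊆ O \ {p, r, u} := fun i hi => by
      refine Finset.mem_sdiff.2 ⟨by simp [hO, hw.supp i hi], fun hh => ?_⟩
      simp only [Finset.mem_insert, Finset.mem_singleton] at hh
      rcases hh with rfl | rfl | rfl
      exacts [hpP hi, hpP (hall.1.2 hi), hpP (hall.2.2 hi)]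
    have hle := Finset.card_le_card hsub
    rw [Finset.card_sdiff_of_subset (fun i hi => by
      simp only [Finset.mem_insert, Finset.mem_singleton] at hi
      rcases hi with rfl | rfl | rfl <;> simp [hO, hin.1, hin.2, hu0]), hc3, hO, h.card_supp,
      hw.card] at hle
    omega

end Gram

end CfsgLib.DihedralDefect
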