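import Cfsg.Agent.Lib.DihedralDefect.Values
import Cfsg.Agent.Lib.KleinDefect.SignVectors

/-!
# The part at `z`: heights and the bound on the rank

The multiplier `Y ψ` of the part of `ψ` at `z` is a nonzero integer, congruent to the reduced
degree up to a unit.
-/

set_option autoImplicit false
set_option linter.unusedSectionVars false
set_option linter.style.haveILetI false

namespace CfsgLib.DihedralDefect

open Cfsg MonoidAlgebra CfsgLib.Blocks CfsgLib.BrauerPairs CfsgLib.BPStar CfsgLib.Characters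
  CfsgLib.NilBlk CfsgLib.Contribution CfsgLib.CentralDefect
open scoped Classical ComplexConjugate

universe u

variable {p : ℕ} [Fact p.Prime] {M : Ideal AlgInt} [M.IsMaximal]
variable {G : Type u} [Group G] [Fintype G] {hM : IsPModular p M}
variable {B : Set (IrrCharacter G)} {D : Subgroup G} {z : G}

/-- `z` inside its centraliser. -/
def zH (z : G) : Hz z := ⟨z, Subgroup.mem_centralizer_singleton_iff.2 rfl⟩

theorem zH_mem_center (z : G) : zH z ∈ Subgroup.center (Hz z) :=
  Subgroup.mem_center_iff.2 fun c => Subtype.ext (Subgroup.mem_centralizer_singleton_iff.1 c.2)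

/-- `z` inside the defect group of the centraliser. -/
def zD (hzD : z ∈ D) : DH D z := ⟨zH z, hzD⟩

namespace Loc

variable (L : Loc hM B D z)

theorem F'_regular (f : IrrCharacter (DH D z)) {s : Hz z} (hs : ¬ p ∣ orderOf s) :
    (L.F' f : Hz z → ℂ) s = (f : DH D z → ℂ) 1 * (L.χ₀ : Hz z → ℂ) s := by
  rw [F'_eq, starC_regular L.ctx (irr_isClassFunction f) L.mem₀ hs]

theorem F'_z (hz : orderOf z = p) (hzD : z ∈ D) (f : IrrCharacter (DH D z)) {s : Hz z}
    (hs : ¬ p ∣ orderOf s) :
    (L.F' f : Hz z → ℂ) (zH z * s) = (f : DH D z → ℂ) (zD hzD) * (L.χ₀ : Hz z → ℂ) (zH z * s) := by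
  have hzo : ∃ k : ℕ, orderOf (zH z) = p ^ k := ⟨1, by
    rw [pow_one, ← Subgroup.orderOf_coe]; exact hz⟩
  have hmem : s ∈ cz (Subgroup.zpowers (zH z)) := mem_cz.2 fun v hv => by
    obtain ⟨i, rfl⟩ := Subgroup.mem_zpowers_iff.1 hv
    exact (Commute.zpow_left
      (show Commute (zH z) s from (Subgroup.mem_center_iff.1 (zH_mem_center z) s).symm) i).eq
  rw [F'_eq]
  refine starC_of_weight (s := ⟨s, hmem⟩) L.isPBlock L.mem₀ hzo
    (by rwa [← Subgroup.orderOf_coe]) _ fun b hb hcov => ?_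
  obtain ⟨t, ht⟩ := L.ctx.star.exists_conj (BPStar.isPGroup_zpowers hzo) hb hcov
  rw [wC_eq L.ctx (irr_isClassFunction f) ht]
  refine congrArg _ (Subtype.ext ?_)
  show t * zH z * t⁻¹ = zH z
  rw [Subgroup.mem_center_iff.1 (zH_mem_center z) t, mul_inv_cancel_right]

/-- The scalar of `z` on the character of height zero. -/
noncomputable def lam : ℂ := (L.χ₀ : Hz z → ℂ) (zH z) / (L.χ₀ : Hz z → ℂ) 1

theorem χ₀_z_mul (s : Hz z) :
    (L.χ₀ : Hz z → ℂ) (zH z * s) = L.lam * (L.χ₀ : Hz z → ℂ) s :=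
  CentralDefect.apply_central_mul L.χ₀ (zH_mem_center z) s

theorem scal_F' (hz : orderOf z = p) (hzD : z ∈ D) (f : IrrCharacter (DH D z)) :
    (L.F' f : Hz z → ℂ) (zH z) / (L.F' f : Hz z → ℂ) 1 * (f : DH D z → ℂ) 1 =
      L.lam * (f : DH D z → ℂ) (zD hzD) := by
  have h1 : ¬ p ∣ orderOf (1 : Hz z) := by rw [orderOf_one]; exact (Fact.out : p.Prime).not_dvd_one
  have hz1 := L.F'_z hz hzD f h1
  rw [mul_one] at hz1
  rw [hz1, L.F'_regular f h1, lam]
  have := irr_one_ne_zero L.χ₀
  have := irr_one_ne_zero f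
  field_simp

/-- The part at `z`. -/
theorem shift_part (hz : orderOf z = p) (hzD : z ∈ D) (ψ : IrrCharacter G) {s : Hz z}
    (hs : ¬ p ∣ orderOf s) :
    blockPart L.c (fun h : Hz z => (ψ : G → ℂ) (z * h)) s =
      L.lam * L.gval ψ (zD hzD) * (L.χ₀ : Hz z → ℂ) s := by
  rw [blockPart_eq_sum, L.sum_c, gval, gfun, Finset.mul_sum, Finset.sum_mul]
  refine Finset.sum_congr rfl fun f _ => ?_
  rw [show (fun h : Hz z => (ψ : G → ℂ) (z * h)) =
      fun h : Hz z => (ψ : G → ℂ) ((zH z : G) * h) from rfl,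
    SubsectionSq.classInner_shift (zH_mem_center z) ψ (L.F' f), L.F'_regular f hs, mult]
  show _ = L.lam * (classInner (fun c : Hz z => (ψ : G → ℂ) c) (L.F' f : Hz z → ℂ) * _) * _
  linear_combination (classInner (fun c : Hz z => (ψ : G → ℂ) c) (L.F' f : Hz z → ℂ) *
    (L.χ₀ : Hz z → ℂ) s) * L.scal_F' hz hzD f

theorem lam_sq (hz2 : orderOf z = 2) : L.lam * L.lam = 1 := by
  rw [lam, ← pow_two, ← SubsectionSq.apply_central_pow L.χ₀ (zH_mem_center z),
    show zH z ^ 2 = 1 from Subtype.ext (by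
      rw [SubgroupClass.coe_pow, OneMemClass.coe_one]
      show z ^ 2 = 1
      rw [← hz2, pow_orderOf_eq_one]), div_self (irr_one_ne_zero L.χ₀)]

theorem blockDefect_c (hD : IsDefectGroup p M B D) (hDz : D ≤ Hz z) :
    blockDefect p L.c = blockDefect p B := by
  refine Nat.pow_right_injective (Fact.out : p.Prime).two_le (?_ : p ^ _ = p ^ _)
  rw [← BlockCover.natCard_defect hM L.isPBlock L.defect,
    ← BlockCover.natCard_defect hM L.isPBlockB hD,
    Nat.card_congr (Subgroup.subgroupOfEquivOfLe hDz).toEquiv]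

/-- The multiplier at `z` does not vanish. -/
theorem gval_z_ne_zero (hz : orderOf z = p) (hzD : z ∈ D) (hD : IsDefectGroup p M B D)
    (hDz : D ≤ Hz z) {ψ : IrrCharacter G} (hψ : ψ ∈ B) : L.gval ψ (zD hzD) ≠ 0 := by
  intro h0
  refine MajorNonvanish.blockPart_one_ne_zero hM ⟨1, by rw [hz, pow_one]⟩ rfl L.ind
    (L.blockDefect_c hD hDz) hψ ?_
  rw [L.shift_part hz hzD ψ (by rw [orderOf_one]; exact (Fact.out : p.Prime).not_dvd_one), h0,
    mul_zero, zero_mul]

/-- The norm of the character of height zero on the regular elements. -/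
theorem sum_regular_χ₀ :
    ((p : ℂ) ^ blockDefect p L.c) *
      ∑ s ∈ Finset.univ.filter (fun s : Hz z => ¬ p ∣ orderOf s),
        (L.χ₀ : Hz z → ℂ) s * conj ((L.χ₀ : Hz z → ℂ) s) = (Nat.card (Hz z) : ℂ) := by
  set δ : DH D z → ℂ := fun x => if x = 1 then 1 else 0 with hδ
  have hδc : IsClassFunction (DH D z) δ := fun a t => by simp [hδ]
  have h := classInner_starC L.ctx hδc hδc L.mem₀
  rw [Finset.sum_eq_single (1 : DH D z) (fun x _ hx => by simp [hδ, hx])
    (fun h => absurd (Finset.mem_univ _) h), aVal_eq_one L.ctx L.mem₀ L.height₀, classInner] at h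
  simp only [hδ, if_true, map_one, mul_one] at h
  rw [Finset.sum_filter]
  have hval : ∀ s : Hz z, starC hM L.c (DH D z) L.eD δ (L.χ₀ : Hz z → ℂ) s *
      conj (starC hM L.c (DH D z) L.eD δ (L.χ₀ : Hz z → ℂ) s) =
      if ¬ p ∣ orderOf s then (L.χ₀ : Hz z → ℂ) s * conj ((L.χ₀ : Hz z → ℂ) s) else 0 := by
    intro s
    by_cases hs : p ∣ orderOf s
    · rw [starC_eq_zero_of_singular L.ctx hδc (fun x hx => by simp [hδ, hx]) L.mem₀ hs,
        if_neg (not_not.2 hs), zero_mul]
    · rw [starC_regular L.ctx hδc L.mem₀ hs, if_pos hs]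
      simp [hδ]
  rw [Finset.sum_congr rfl fun s _ => hval s, BlockCover.natCard_defect hM L.isPBlock L.defect,
    Nat.cast_pow] at h
  have hp0 : (p : ℂ) ^ blockDefect p L.c ≠ 0 := pow_ne_zero _ (Nat.cast_ne_zero.2 hM.1.ne_zero)
  have hH0 : (Nat.card (Hz z) : ℂ) ≠ 0 := Nat.cast_ne_zero.2 Nat.card_pos.ne'
  field_simp at h
  linear_combination h

/-- The multiplier at `z` is the reduced degree times a local number depending only on the block
modulo the ideal. -/
theorem exists_W (hz : orderOf z = p) (hzD : z ∈ D) (hD : IsDefectGroup p M B D)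
    (hDz : D ≤ Hz z) :
    ∃ W : IrrCharacter G → ℂ, (∀ ψ ∈ B, MemLocalRing M (W ψ)) ∧
      (∀ ψ ∈ B, ∀ φ ∈ B, MemLocalIdeal M (W ψ - W φ)) ∧
      ∀ ψ ∈ B, L.lam * L.gval ψ (zD hzD) *
        ((Nat.card G / p ^ (Nat.card G).factorization p : ℕ) : ℂ) = (red p B ψ : ℂ) * W ψ := by
  let _ : Fintype (ConjClasses (Hz z)) := Fintype.ofFinite _
  set T := Finset.univ.filter (fun K : ConjClasses (Hz z) => ¬ p ∣ orderOf K.out)
  refine ⟨fun ψ => ∑ K ∈ T, centralChar (ψ : G → ℂ) (z * (K.out : Hz z)) *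
    conj ((L.χ₀ : Hz z → ℂ) K.out), fun ψ _ => ?_, fun ψ hψ φ hφ => ?_, fun ψ hψ => ?_⟩
  · refine (lRing hM).sum_mem fun K _ => (lRing hM).mul_mem (centralChar_mem_lRing hM ψ _) ?_
    rw [← irr_apply_inv]
    exact isIntegral_mem_lRing hM (CfsgLib.ClassCount.irr_isIntegral _ _)
  · rw [← Finset.sum_sub_distrib]
    refine MemLocalIdeal.sum hM _ fun K _ => ?_
    rw [← sub_mul]
    refine MemLocalIdeal.mul_right hM ((IsPBlock.mem_iff hM L.isPBlockB hψ φ).1 hφ _) ?_
    rw [← irr_apply_inv]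
    exact isIntegral_mem_lRing hM (CfsgLib.ClassCount.irr_isIntegral _ _)
  have hcf := MajorNonvanish.isClassFunction_shift (C := Hz z) (y := z) rfl ψ
  have h1 := sum_regular_mul_part hM L.isPBlock hcf L.mem₀
  rw [Finset.sum_congr rfl (fun s hs => by
      rw [L.shift_part hz hzD ψ (Finset.mem_filter.1 hs).2, mul_assoc] :
    ∀ s ∈ Finset.univ.filter (fun s : Hz z => ¬ p ∣ orderOf s),
      blockPart L.c (fun c : Hz z => (ψ : G → ℂ) (z * c)) s * conj ((L.χ₀ : Hz z → ℂ) s) =
        L.lam * L.gval ψ (zD hzD) * ((L.χ₀ : Hz z → ℂ) s * conj ((L.χ₀ : Hz z → ℂ) s))),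
    ← Finset.mul_sum] at h1
  have h2 := CyclicDefectBound.sum_classes (p := p)
    (fun s : Hz z => (ψ : G → ℂ) (z * s) * conj ((L.χ₀ : Hz z → ℂ) s))
    (fun g t => by
      show (ψ : G → ℂ) (z * ((t * g * t⁻¹ : Hz z) : G)) * _ = _
      rw [show (ψ : G → ℂ) (z * ((t * g * t⁻¹ : Hz z) : G)) = (ψ : G → ℂ) (z * g) from hcf g t,
        irr_isClassFunction L.χ₀ g t])
  have hreg : regSet (Hz z) p = Finset.univ.filter (fun s : Hz z => ¬ p ∣ orderOf s) := by
    ext s; simp [mem_regSet]
  rw [hreg, h1] at h2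
  have h3 := congrArg (fun w => (p : ℂ) ^ blockDefect p L.c * w) h2
  simp only [mul_left_comm _ (L.lam * L.gval ψ (zD hzD)), L.sum_regular_χ₀] at h3
  set m := Nat.card G / p ^ (Nat.card G).factorization p with hm
  have hH0 : (Nat.card (Hz z) : ℂ) ≠ 0 := Nat.cast_ne_zero.2 Nat.card_pos.ne'
  refine mul_right_cancel₀ hH0 ?_
  rw [mul_right_comm, h3, Finset.mul_sum, Finset.sum_mul, Finset.mul_sum, Finset.sum_mul]
  refine Finset.sum_congr (by ext; simp [T]) fun K hK => ?_
  set C := Subgroup.centralizer ({z * (K.out : Hz z)} : Set G)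
  have hcard : Nat.card (Subgroup.centralizer ({K.out} : Set (Hz z))) = Nat.card C :=
    KleinDefect.card_centralizer_section hM.1 ⟨1, by rw [hz, pow_one]⟩ K.out
      (Finset.mem_filter.1 hK).2
  have hidx : ((Subgroup.centralizer ({K.out} : Set (Hz z))).index : ℂ) * (Nat.card C : ℂ) =
      (Nat.card (Hz z) : ℂ) := by
    rw [← hcard, ← Nat.cast_mul, Subgroup.index_mul_card]
  have hG : (Nat.card C : ℂ) * (C.index : ℂ) =
      (p : ℂ) ^ minExp p B * (p : ℂ) ^ blockDefect p B * (m : ℂ) := by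
    rw [← Nat.cast_mul, C.card_mul_index, ← pow_add, minExp_add_defect hM L.isPBlockB]
    exact cast_card_eq
  rw [centralChar, apply_one_red (p := p) hψ, L.blockDefect_c hD hDz, ← hidx]
  have hr0 : (red p B ψ : ℂ) ≠ 0 := Nat.cast_ne_zero.2 (red_pos hψ).ne'
  have hp0 : (p : ℂ) ≠ 0 := Nat.cast_ne_zero.2 hM.1.ne_zero
  field_simp
  linear_combination -((ψ : G → ℂ) (z * (K.out : Hz z)) * conj ((L.χ₀ : Hz z → ℂ) K.out) *
    ((Subgroup.centralizer ({K.out} : Set (Hz z))).index : ℂ)) * hG

/-- The rank is at most the number of members less the number of nonconjugate elements of the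
defect group having `z` among their powers. -/
theorem blockRank_add_le (L : Loc hM B D z) (hz2 : orderOf z = 2) (hzp : orderOf z = p) {ι : Type*} [Fintype ι]
    (x : ι → DH D z) (hx : ∀ i, z ∈ Subgroup.zpowers ((x i : Hz z) : G))
    (hne : ∀ i j, IsConj (x i) (x j) → i = j) :
    blockRank p B + Fintype.card ι ≤ Nat.card B := by
  set Lm : (members B → ℂ) →ₗ[ℂ] G → ℂ := Fintype.linearCombination ℂ
    (fun χ : members B => pRegularPart p ((χ : IrrCharacter G) : G → ℂ)) with hL
  have hdom : Module.finrank ℂ (members B → ℂ) = Nat.card B := by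
    rw [Module.finrank_fintype_fun_eq_card, Fintype.card_coe, ← card_members]
  have hrange : Module.finrank ℂ (LinearMap.range Lm) = blockRank p B := by
    rw [blockRank, hL, Fintype.range_linearCombination]
    rw [show Set.range (fun χ : members B => pRegularPart p ((χ : IrrCharacter G) : G → ℂ)) =
      (fun χ : IrrCharacter G => pRegularPart p (χ : G → ℂ)) '' B from Set.ext fun f => by
        simp [mem_members]]
  let V : ι → members B → ℂ := fun i χ => conj (L.gval (χ : IrrCharacter G) (x i))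
  have hker : ∀ i, V i ∈ LinearMap.ker Lm := fun i => by
    rw [LinearMap.mem_ker]
    funext w
    rw [hL, Fintype.linearCombination_apply, Finset.sum_apply]
    simp only [V, Pi.smul_apply, smul_eq_mul]
    by_cases hw : IsPRegular p w
    · rw [Pi.zero_apply, ← L.sum_regular_gval hw (x i) (hx i) hzp,
        ← Finset.sum_coe_sort (members B)]
      exact Finset.sum_congr rfl fun χ _ => by rw [pRegularPart, if_pos hw, mul_comm]
    · exact Finset.sum_eq_zero fun χ _ => by rw [pRegularPart, if_neg hw, mul_zero]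
  have hli : LinearIndependent ℂ V := by
    rw [Fintype.linearIndependent_iff]
    intro a ha j
    have h1 : ∑ χ : members B, L.gval (χ : IrrCharacter G) (x j) *
        (∑ i, a i * V i χ) = 0 := Finset.sum_eq_zero fun χ _ => by
      have := congrFun ha χ
      simp only [Finset.sum_apply, Pi.smul_apply, smul_eq_mul, Pi.zero_apply] at this
      rw [this, mul_zero]
    simp only [Finset.mul_sum, V] at h1
    rw [Finset.sum_comm, Finset.sum_eq_single j] at h1
    · simp only [mul_left_comm _ (a j)] at h1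
      rw [← Finset.mul_sum, Finset.sum_coe_sort (members B) (fun χ : IrrCharacter G =>
        L.gval χ (x j) * conj (L.gval χ (x j))), L.gval_orth hz2 (x j) (x j) (hx j) (hx j),
        column_orth, if_pos (IsConj.refl _)] at h1
      exact (mul_eq_zero.1 h1).resolve_right (Nat.cast_ne_zero.2 Nat.card_pos.ne')
    · intro i _ hij
      simp only [mul_left_comm _ (a i)]
      rw [← Finset.mul_sum, Finset.sum_coe_sort (members B) (fun χ : IrrCharacter G =>
        L.gval χ (x j) * conj (L.gval χ (x i))), L.gval_orth hz2 (x j) (x i) (hx j) (hx i),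
        column_orth, if_neg fun h => hij (hne j i h).symm, mul_zero]
    · exact fun h => absurd (Finset.mem_univ _) h
  have hli' : LinearIndependent ℂ (fun i => (⟨V i, hker i⟩ : LinearMap.ker Lm)) :=
    LinearIndependent.of_comp (LinearMap.ker Lm).subtype hli
  have h1 := hli'.fintype_card_le_finrank
  have h2 := LinearMap.finrank_range_add_finrank_ker Lm
  omega

end Loc

end CfsgLib.DihedralDefect
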