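import Cfsg.Agent.Lib.Blocks12.DihedralBlock

/-!
# Integer coordinates of column orthogonal functions on a cyclic group

A family of functions on the nontrivial elements of a cyclic group of order `q = 2N`, even,
column orthogonal like the characters of a dihedral group, has integer coordinates with a
fixed Gram matrix.
-/

set_option autoImplicit false

namespace CfsgLib.DihedralDefect

open CfsgLib.DihedralBlock (root_sum coeff_eq root_half)

/-- The Gram matrix of the coordinates. -/
theorem exists_columns {ι : Type*} [Fintype ι] {q N : ℕ} (hq : q = 2 * N) (hN : 0 < N) {ζ : ℂ}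
    (hζ : IsPrimitiveRoot ζ q) (Gv : ι → ℕ → ℂ)
    (hint : ∀ i, ∃ d : ℕ → ℤ, d 0 = 0 ∧ ∀ l, 0 < l → l < q →
      Gv i l = ∑ k ∈ Finset.range q, (d k : ℂ) * ζ ^ (k * l))
    (hsym : ∀ i l, 0 < l → l < q → Gv i (q - l) = Gv i l)
    (horth : ∀ l l', 0 < l → l < q → 0 < l' → l' < q →
      ∑ i, Gv i l * Gv i l' = (q : ℂ) * ((if l' = l then 1 else 0) + if l' + l = q then 1 else 0)) :
    ∃ d : ℕ → ι → ℤ,
      (∀ a c, 1 ≤ a → a ≤ N → 1 ≤ c → c ≤ N → ∑ i, d a i * d c i =
        2 + (if a = c then 1 else 0) + (if a = N ∧ c = N then 1 else 0)) ∧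
      (∀ i, Gv i N = ((-1 : ℂ) ^ N * d N i +
        2 * ∑ k ∈ Finset.Ico 1 N, (-1 : ℂ) ^ k * d k i)) ∧
      (N = 4 → ∀ i, Gv i 1 + Gv i 3 = -2 * (d 4 i : ℂ)) ∧
      ∀ w : ι → ℂ, (∀ l, 0 < l → l < q → ∑ i, w i * Gv i l = 0) →
        ∀ k, 1 ≤ k → k ≤ N → ∑ i, w i * (d k i : ℂ) = 0 := by
  classical
  choose d hd0 hd using hint
  have hq0 : q ≠ 0 := by omega
  have hζ0 : ζ ≠ 0 := hζ.ne_zero hq0
  have hval : ∀ i, ∀ k, k < q → (q : ℂ) * d i k =
      ∑ l ∈ Finset.range q, Gv i l * (ζ ^ ((q - k) * l) - 1) := fun i k hk =>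
    coeff_eq hq0 hζ (hd0 i) (hd i) hk
  have hcompl : ∀ a b, a ≤ q → b ≤ q → ζ ^ ((q - a) * (q - b)) = ζ ^ (a * b) := by
    intro a b ha hb
    have e1 : ζ ^ ((q - a) * (q - b)) * ζ ^ (a * (q - b)) = 1 := by
      rw [← pow_add, ← add_mul, Nat.sub_add_cancel ha, pow_mul, hζ.pow_eq_one, one_pow]
    have e2 : ζ ^ (a * b) * ζ ^ (a * (q - b)) = 1 := by
      rw [← pow_add, ← mul_add, Nat.add_sub_cancel' hb, mul_comm, pow_mul, hζ.pow_eq_one, one_pow]
    exact mul_right_cancel₀ (pow_ne_zero _ hζ0) (e1.trans e2.symm)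
  -- symmetry
  have hdsym : ∀ i k, 0 < k → k < q → d i (q - k) = d i k := by
    intro i k hk0 hk
    have : (q : ℂ) * d i (q - k) = (q : ℂ) * d i k := by
      rw [hval i (q - k) (by omega), hval i k hk]
      refine Finset.sum_bij' (fun l _ => if l = 0 then 0 else q - l)
        (fun l _ => if l = 0 then 0 else q - l) ?_ ?_ ?_ ?_ ?_
      · intro l hl; simp only [Finset.mem_range] at hl ⊢; split_ifs <;> omega
      · intro l hl; simp only [Finset.mem_range] at hl ⊢; split_ifs <;> omega
      · intro l hl; simp only [Finset.mem_range] at hl; split_ifs <;> omega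
      · intro l hl; simp only [Finset.mem_range] at hl; split_ifs <;> omega
      · intro l hl
        simp only [Finset.mem_range] at hl
        split_ifs with h0
        · subst h0; simp
        · rw [hsym i l (by omega) hl, hcompl k l hk.le hl.le, Nat.sub_sub_self hk.le]
    exact_mod_cast mul_left_cancel₀ (Nat.cast_ne_zero.mpr hq0) this
  refine ⟨fun k i => d i k, ?_, fun i => ?_, fun h4 i => ?_, fun w hw k hk1 hk2 => ?_⟩
  · intro k k' hk1 hk2 hk1' hk2'
    set A : ℕ → ℕ → ℂ := fun k l => ζ ^ ((q - k) * l) - 1 with hA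
    have hA0 : ∀ k, A k 0 = 0 := fun k => by simp [hA]
    have key : (q : ℂ) * q * ((∑ i, d i k * d i k' : ℤ) : ℂ) =
        q * q * ((2 + (if k = k' then 1 else 0) +
          (if k = N ∧ k' = N then 1 else 0) : ℤ) : ℂ) := by
      push_cast
      rw [Finset.mul_sum]
      calc ∑ i, (q : ℂ) * q * ((d i k : ℂ) * d i k')
          = ∑ i, (∑ l ∈ Finset.range q, Gv i l * A k l) *
              ∑ l' ∈ Finset.range q, Gv i l' * A k' l' := by
            refine Finset.sum_congr rfl fun i _ => ?_
            rw [← hval i k (by omega), ← hval i k' (by omega)]; ring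
        _ = ∑ l ∈ Finset.range q, ∑ l' ∈ Finset.range q, A k l * A k' l' *
              ∑ i, Gv i l * Gv i l' := by
            rw [Finset.sum_congr rfl (fun (i : ι) _ => Finset.sum_mul_sum _ _ _ _), Finset.sum_comm]
            refine Finset.sum_congr rfl fun l _ => ?_
            rw [Finset.sum_comm]
            refine Finset.sum_congr rfl fun l' _ => ?_
            rw [Finset.mul_sum]
            exact Finset.sum_congr rfl fun i _ => by ring
        _ = ∑ l ∈ Finset.range q, (q : ℂ) * (A k l * (A k' l + (ζ ^ (k' * l) - 1))) := by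
            refine Finset.sum_congr rfl fun l hl => ?_
            rcases Nat.eq_zero_or_pos l with rfl | h0
            · simp [hA0]
            have hlq := Finset.mem_range.mp hl
            have e : ∀ l' ∈ Finset.range q, A k l * A k' l' * ∑ i, Gv i l * Gv i l' =
              (q : ℂ) * A k l * ((if l' = l then A k' l' else 0) +
                if l' = q - l then A k' l' else 0) := by
              intro l' hl'
              rcases Nat.eq_zero_or_pos l' with rfl | h0'
              · simp [hA0]
              rw [horth l l' h0 hlq h0' (Finset.mem_range.mp hl')]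
              simp only [show (l' + l = q) = (l' = q - l) from
                propext ⟨fun _ => by omega, fun _ => by omega⟩]
              split_ifs <;> ring
            rw [Finset.sum_congr rfl e, ← Finset.mul_sum, Finset.sum_add_distrib,
              Finset.sum_ite_eq', Finset.sum_ite_eq', if_pos hl,
              if_pos (Finset.mem_range.mpr (by omega))]
            rw [show A k' (q - l) = ζ ^ (k' * l) - 1 by
              simp only [hA]; rw [hcompl k' l (by omega) hlq.le]]
            ring
        _ = _ := by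
            rw [← Finset.mul_sum, mul_assoc (q : ℂ)]
            congr 1
            have hterm : ∀ l : ℕ, A k l * (A k' l + (ζ ^ (k' * l) - 1)) =
                ζ ^ (((q - k) + (q - k')) * l) + ζ ^ (((q - k) + k') * l) - 2 * ζ ^ ((q - k) * l)
                  - ζ ^ ((q - k') * l) - ζ ^ (k' * l) + 2 := fun l => by
              simp only [hA, add_mul, pow_add]; ring
            simp only [hterm, Finset.sum_add_distrib, Finset.sum_sub_distrib, ← Finset.mul_sum,
              root_sum hq0 hζ, Finset.sum_const, Finset.card_range, nsmul_eq_mul]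
            have e1 : q ∣ (q - k) + (q - k') ↔ (k = N ∧ k' = N) := by
              constructor
              · rintro ⟨t, ht⟩
                rcases t with _ | _ | t
                · omega
                · simp only [Nat.zero_add, Nat.mul_one] at ht; omega
                · have : q * 2 ≤ q * (t + 1 + 1) := Nat.mul_le_mul_left _ (by omega)
                  omega
              · rintro ⟨rfl, rfl⟩; exact ⟨1, by omega⟩
            have e2 : q ∣ (q - k) + k' ↔ k = k' := by
              constructor
              · rintro ⟨t, ht⟩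
                rcases t with _ | _ | t
                · omega
                · simp only [Nat.zero_add, Nat.mul_one] at ht; omega
                · have : q * 2 ≤ q * (t + 1 + 1) := Nat.mul_le_mul_left _ (by omega)
                  omega
              · rintro rfl; exact ⟨1, by omega⟩
            have n1 : ¬ q ∣ q - k := fun hd =>
              absurd (Nat.le_of_dvd (by omega) hd) (by omega)
            have n2 : ¬ q ∣ q - k' := fun hd =>
              absurd (Nat.le_of_dvd (by omega) hd) (by omega)
            have n3 : ¬ q ∣ k' := fun hd => absurd (Nat.le_of_dvd (by omega) hd) (by omega)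
            simp only [e1, e2, if_neg n1, if_neg n2, if_neg n3]
            split_ifs <;> ring
    exact_mod_cast mul_left_cancel₀ (mul_ne_zero (Nat.cast_ne_zero.mpr hq0)
      (Nat.cast_ne_zero.mpr hq0)) key
  · -- the middle value
    rw [hd i N hN (by omega)]
    have hh : ∀ k, ζ ^ (k * N) = (-1 : ℂ) ^ k := fun k => by
      rw [mul_comm, pow_mul, root_half hq hζ hN]
    simp only [hh, mul_comm (d i _ : ℂ)]
    rw [Finset.range_eq_Ico, ← Finset.sum_Ico_consecutive _ (Nat.zero_le N) (by omega : N ≤ q),
      Finset.sum_eq_sum_Ico_succ_bot hN, Finset.sum_eq_sum_Ico_succ_bot (by omega : N < q), hd0]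
    have hrefl : ∑ k ∈ Finset.Ico (N + 1) q, (-1 : ℂ) ^ k * (d i k : ℂ) =
        ∑ k ∈ Finset.Ico 1 N, (-1 : ℂ) ^ k * (d i k : ℂ) := by
      refine Finset.sum_bij' (fun k _ => q - k) (fun k _ => q - k) ?_ ?_ ?_ ?_ ?_
      · intro k hk; simp only [Finset.mem_Ico] at hk ⊢; omega
      · intro k hk; simp only [Finset.mem_Ico] at hk ⊢; omega
      · intro k hk; simp only [Finset.mem_Ico] at hk; omega
      · intro k hk; simp only [Finset.mem_Ico] at hk; omega
      · intro k hk
        simp only [Finset.mem_Ico] at hk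
        rw [hdsym i k (by omega) hk.2]
        congr 1
        rw [neg_one_pow_eq_pow_mod_two, neg_one_pow_eq_pow_mod_two (n := q - k),
          show (q - k) % 2 = k % 2 by omega]
    rw [hrefl]
    push_cast
    ring
  · subst h4
    have hq8 : q = 8 := by omega
    subst hq8
    rw [hd i 1 one_pos (by norm_num), hd i 3 (by norm_num) (by norm_num)]
    simp only [Finset.sum_range_succ, Finset.sum_range_zero, hd0]
    have h5 : d i 5 = d i 3 := hdsym i 3 (by norm_num) (by norm_num)
    have h6 : d i 6 = d i 2 := hdsym i 2 (by norm_num) (by norm_num)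
    have h7 : d i 7 = d i 1 := hdsym i 1 (by norm_num) (by norm_num)
    rw [h5, h6, h7]
    have h44 : ζ ^ 4 = -1 := root_half (q := 8) (h := 4) rfl hζ (by norm_num)
    push_cast
    ring_nf
    have e : ∀ j, ζ ^ (4 + j) = -ζ ^ j := fun j => by rw [pow_add, h44, neg_one_mul]
    simp only [show ζ ^ 5 = ζ ^ (4 + 1) from rfl, show ζ ^ 6 = ζ ^ (4 + 2) from rfl,
      show ζ ^ 7 = ζ ^ (4 + 3) from rfl, show ζ ^ 9 = ζ ^ (4 + (4 + 1)) from rfl,
      show ζ ^ 12 = ζ ^ (4 + (4 + 4)) from rfl, show ζ ^ 15 = ζ ^ (4 + (4 + (4 + 3))) from rfl,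
      show ζ ^ 18 = ζ ^ (4 + (4 + (4 + (4 + 2)))) from rfl,
      show ζ ^ 21 = ζ ^ (4 + (4 + (4 + (4 + (4 + 1))))) from rfl, e, h44]
    ring
  · refine mul_left_cancel₀ (Nat.cast_ne_zero.mpr hq0 : (q : ℂ) ≠ 0) ?_
    rw [mul_zero, Finset.mul_sum, Finset.sum_congr rfl (fun i _ => by
      rw [mul_left_comm, hval i k (by omega), Finset.mul_sum] : ∀ i ∈ (Finset.univ : Finset ι),
        (q : ℂ) * (w i * (d i k : ℂ)) =
          ∑ l ∈ Finset.range q, w i * (Gv i l * (ζ ^ ((q - k) * l) - 1))), Finset.sum_comm]
    refine Finset.sum_eq_zero fun l hl => ?_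
    simp only [← mul_assoc, ← Finset.sum_mul]
    rcases Nat.eq_zero_or_pos l with rfl | h0
    · simp
    · rw [hw l h0 (Finset.mem_range.mp hl), zero_mul]

end CfsgLib.DihedralDefect
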