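import Cfsg.Agent.Lib.TwoGroups.DihedralFusion
import Cfsg.Agent.Lib.Characters.Basic

/-!
# Dihedral subgroups: rotations, their conjugacy, and automorphisms of odd order
-/

set_option autoImplicit false
set_option linter.unusedSectionVars false

namespace CfsgLib.DihedralDefect

open DihedralGroup
open CfsgLib.TwoGroups.DihedralFusion (two_torsion parity rj_commute commute_sr_cases cast_two_mul
  j_ne_zero zmod2_cases)

universe u

/-! ### An involution in cyclic subgroups -/

section Cyclic

variable {G : Type u} [Group G] [Finite G]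

/-- An involution among the powers of `y` is the middle power. -/
theorem eq_half_pow {y z : G} (hz : orderOf z = 2) (h : z ∈ Subgroup.zpowers y) :
    z = y ^ (orderOf y / 2) := by
  obtain ⟨k, hk⟩ := (Submonoid.mem_powers_iff _ _).1 (mem_powers_iff_mem_zpowers.2 h)
  subst hk
  set o := orderOf y
  have ho : 0 < o := orderOf_pos y
  have h1 : y ^ k ≠ 1 := fun h1 => by rw [h1, orderOf_one] at hz; omega
  have h2 : o ∣ k * 2 := orderOf_dvd_of_pow_eq_one (by
    rw [pow_mul, ← hz, pow_orderOf_eq_one])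
  have h3 : ¬ o ∣ k := fun h3 => h1 (orderOf_dvd_iff_pow_eq_one.1 h3)
  obtain ⟨t, ht⟩ := h2
  rcases Nat.even_or_odd t with ⟨s, rfl⟩ | ⟨s, rfl⟩
  · exact absurd ⟨s, by linarith⟩ h3
  · obtain ⟨a, ha⟩ : 2 ∣ o := by
      have : 2 ∣ o * (2 * s + 1) := ⟨k, by rw [← ht, mul_comm]⟩
      exact (Nat.prime_two.dvd_mul.1 this).resolve_right (by omega)
    have hka : k = a + o * s := by rw [ha] at ht ⊢; linarith
    rw [hka, pow_add, pow_mul, pow_orderOf_eq_one, one_pow, mul_one, ha,
      Nat.mul_div_cancel_left _ two_pos]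

/-- Centralisers of elements with `z` among their powers fix `z`. -/
theorem centralizer_le_of_mem {x z : G} (h : z ∈ Subgroup.zpowers x) :
    Subgroup.centralizer ({x} : Set G) ≤ Subgroup.centralizer ({z} : Set G) := by
  intro t ht
  obtain ⟨i, rfl⟩ := Subgroup.mem_zpowers_iff.1 h
  exact Subgroup.mem_centralizer_singleton_iff.2
    (Commute.zpow_right (Subgroup.mem_centralizer_singleton_iff.1 ht) i).eq

/-- A conjugation between two such elements fixes `z`. -/
theorem mem_centralizer_of_conj {x y z t : G} (hz : orderOf z = 2)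
    (hx : z ∈ Subgroup.zpowers x) (hy : z ∈ Subgroup.zpowers y) (h : t * x * t⁻¹ = y) :
    t ∈ Subgroup.centralizer ({z} : Set G) := by
  have h1 : t * z * t⁻¹ ∈ Subgroup.zpowers y := by
    obtain ⟨i, rfl⟩ := Subgroup.mem_zpowers_iff.1 hx
    rw [← h]
    exact ⟨i, conj_zpow⟩
  have h2 : orderOf (t * z * t⁻¹) = 2 := by
    rw [show t * z * t⁻¹ = MulAut.conj t z from rfl, MulEquiv.orderOf_eq, hz]
  have h3 := (eq_half_pow h2 h1).trans (eq_half_pow hz hy).symm
  exact Subgroup.mem_centralizer_singleton_iff.2 (mul_inv_eq_iff_eq_mul.1 h3)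

/-- An involution `a` commuting with `x` of odd order moving `y` to `y a` is trivial. -/
theorem eq_one_of_shift {x y a : G} (hx : Odd (orderOf x)) (ha : a * a = 1)
    (hc : x * a = a * x) (h : x * y * x⁻¹ = y * a) : a = 1 := by
  have hk : ∀ k : ℕ, x ^ k * y = y * a ^ k * x ^ k := by
    intro k
    induction k with
    | zero => simp
    | succ k ih =>
      calc x ^ (k + 1) * y = x * (x ^ k * y) := by rw [pow_succ', mul_assoc]
        _ = x * y * a ^ k * x ^ k := by rw [ih]; group
        _ = y * a * x * a ^ k * x ^ k := by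
          rw [mul_inv_eq_iff_eq_mul.1 h]
        _ = y * a * (x * a ^ k) * x ^ k := by group
        _ = y * a * (a ^ k * x) * x ^ k := by
          rw [(Commute.pow_right (show Commute x a from hc) k).eq]
        _ = y * a ^ (k + 1) * x ^ (k + 1) := by rw [pow_succ' a, pow_succ' x]; group
  have h1 := hk (orderOf x)
  rw [pow_orderOf_eq_one, one_mul, mul_one, left_eq_mul] at h1
  obtain ⟨j, hj⟩ := hx
  rwa [hj, pow_succ, pow_mul, pow_two, ha, one_pow, one_mul] at h1

end Cyclic

/-! ### The model -/

section Model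

variable {q j : ℕ} [NeZero q] (hq : q = 2 * j)

theorem isConj_r_iff (a b : ZMod q) :
    IsConj (r a : DihedralGroup q) (r b) ↔ b = a ∨ b = -a := by
  rw [isConj_iff]
  constructor
  · rintro ⟨c | c, hc⟩
    · rw [r_mul_r, inv_r, r_mul_r, r.injEq] at hc
      left; rw [← hc]; abel
    · rw [sr_mul_r, inv_sr, sr_mul_sr, r.injEq] at hc
      right; rw [← hc]; abel
  · rintro (rfl | rfl)
    · exact ⟨1, by simp⟩
    · exact ⟨sr 0, by rw [sr_mul_r, inv_sr, sr_mul_sr, zero_add, zero_sub]⟩

theorem centralizer_r_of_ne {a : ZMod q} (ha : a + a ≠ 0) :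
    Nat.card (Subgroup.centralizer ({r a} : Set (DihedralGroup q))) = q := by
  have key : ∀ g : DihedralGroup q,
      g ∈ Subgroup.centralizer ({r a} : Set (DihedralGroup q)) ↔ ∃ i, g = r i := by
    intro g
    rw [Subgroup.mem_centralizer_singleton_iff]
    rcases g with i | i
    · exact ⟨fun _ => ⟨i, rfl⟩, fun _ => by rw [r_mul_r, r_mul_r, add_comm]⟩
    · rw [sr_mul_r, r_mul_sr, sr.injEq]
      refine ⟨fun h => absurd ?_ ha, fun ⟨k, hk⟩ => by simp at hk⟩
      calc a + a = (i + a) - (i - a) := by abel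
        _ = 0 := by rw [h, sub_self]
  refine (Nat.card_congr (Equiv.ofBijective
    (fun i : ZMod q => (⟨r i, (key _).2 ⟨i, rfl⟩⟩ :
      Subgroup.centralizer ({r a} : Set (DihedralGroup q)))) ⟨fun i k h => ?_, ?_⟩)).symm.trans
    (Nat.card_zmod q)
  · simpa using congrArg Subtype.val h
  · rintro ⟨g, hg⟩
    obtain ⟨i, rfl⟩ := (key g).1 hg
    exact ⟨i, rfl⟩

theorem centralizer_r_of_eq {a : ZMod q} (ha : a + a = 0) :
    Nat.card (Subgroup.centralizer ({r a} : Set (DihedralGroup q))) = 2 * q := by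
  rw [show Subgroup.centralizer ({r a} : Set (DihedralGroup q)) = ⊤ from eq_top_iff.2 ?_,
    Subgroup.card_top, DihedralGroup.nat_card]
  intro g _
  rw [Subgroup.mem_centralizer_singleton_iff]
  rcases g with i | i
  · rw [r_mul_r, r_mul_r, add_comm]
  · rw [sr_mul_r, r_mul_sr, sr.injEq]
    calc i + a = (i - a) + (a + a) := by abel
      _ = i - a := by rw [ha, add_zero]

include hq in
theorem centralizer_sr_le (i : ZMod q) :
    Nat.card (Subgroup.centralizer ({sr i} : Set (DihedralGroup q))) ≤ 4 := by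
  classical
  let s : Finset (DihedralGroup q) := {1, r (j : ZMod q), sr i, sr (i + (j : ZMod q))}
  calc Nat.card (Subgroup.centralizer ({sr i} : Set (DihedralGroup q)))
      ≤ Nat.card (s : Set (DihedralGroup q)) := by
        refine Nat.card_le_card_of_injective (fun g => ⟨g.1, ?_⟩) fun g h e => ?_
        · have := commute_sr_cases (j := j) hq (Subgroup.mem_centralizer_singleton_iff.1 g.2)
          simpa [s] using this
        · exact Subtype.ext (by simpa using e)
    _ = s.card := by simp
    _ ≤ 4 := Finset.card_le_four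

/-- The exponent of the linear character with signs `s` at `r 1` and `t` at `sr 0`. -/
noncomputable def linExp (s t : ZMod 2) : DihedralGroup q → ZMod 2
  | r i => s * parity (j := j) hq i
  | sr i => t + s * parity (j := j) hq i

/-- The sign attached to an element of `ZMod 2`. -/
noncomputable def sgn (x : ZMod 2) : ℂˣ := if x = 0 then 1 else -1

theorem sgn_add (x y : ZMod 2) : sgn (x + y) = sgn x * sgn y := by
  rcases zmod2_cases x with rfl | rfl <;> rcases zmod2_cases y with rfl | rfl <;>
    simp [sgn, CharTwo.add_self_eq_zero]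

theorem linExp_mul (s t : ZMod 2) (a b : DihedralGroup q) :
    linExp hq s t (a * b) = linExp hq s t a + linExp hq s t b := by
  rcases a with a | a <;> rcases b with b | b
  · simp [linExp, r_mul_r, mul_add]
  · simp [linExp, r_mul_sr, CharTwo.sub_eq_add, mul_add]; ring
  · simp [linExp, sr_mul_r, mul_add, add_assoc]
  · simp [linExp, sr_mul_sr, CharTwo.sub_eq_add, mul_add]
    rw [show ∀ u v : ZMod 2, t + u + (t + v) = (t + t) + (v + u) from fun u v => by abel,
      CharTwo.add_self_eq_zero, zero_add]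

/-- The linear characters. -/
noncomputable def lin (s t : ZMod 2) : DihedralGroup q →* ℂˣ :=
  MonoidHom.mk' (fun g => sgn (linExp hq s t g)) fun a b => by rw [linExp_mul, sgn_add]

theorem lin_r (s t : ZMod 2) (i : ZMod q) : lin hq s t (r i) = sgn (s * parity (j := j) hq i) :=
  rfl

theorem lin_sr (s t : ZMod 2) (i : ZMod q) :
    lin hq s t (sr i) = sgn (t + s * parity (j := j) hq i) := rfl

end Model

/-! ### Inside a finite group -/

section Embed

variable {G : Type u} [Group G] [Finite G] {q N : ℕ} [NeZero q] {D : Subgroup G}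
variable (e : DihedralGroup q ≃* D)

/-- The rotations. -/
def rt (i : ZMod q) : G := ((e (r i) : D) : G)

/-- The reflections. -/
def rf (i : ZMod q) : G := ((e (sr i) : D) : G)

theorem rt_mem (i : ZMod q) : rt e i ∈ D := (e (r i)).2

theorem rt_mul (a b : ZMod q) : rt e a * rt e b = rt e (a + b) := by
  rw [rt, rt, rt, ← Subgroup.coe_mul, ← map_mul, r_mul_r]

theorem rt_zero : rt e 0 = 1 := by rw [rt, ← DihedralGroup.one_def, map_one, OneMemClass.coe_one]

theorem rt_injective : Function.Injective (rt e) := fun a b h => by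
  simpa using e.injective (Subtype.ext h)

theorem rt_pow (a : ZMod q) (k : ℕ) : rt e a ^ k = rt e ((k : ZMod q) * a) := by
  induction k with
  | zero => simp [rt_zero]
  | succ k ih => rw [pow_succ, ih, rt_mul, Nat.cast_succ, add_mul, one_mul]

theorem exists_rt_or_rf {y : G} (hy : y ∈ D) : (∃ i, y = rt e i) ∨ ∃ i, y = rf e i := by
  obtain ⟨g, hg⟩ := e.surjective ⟨y, hy⟩
  rcases g with i | i
  · exact Or.inl ⟨i, (congrArg Subtype.val hg).symm⟩
  · exact Or.inr ⟨i, (congrArg Subtype.val hg).symm⟩

theorem rf_mul_self (i : ZMod q) : rf e i * rf e i = 1 := by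
  rw [rf, ← Subgroup.coe_mul, ← map_mul, sr_mul_self, map_one, OneMemClass.coe_one]

theorem rt_ne_rf (a i : ZMod q) : rt e a ≠ rf e i := fun h => by
  simpa using e.injective (Subtype.ext h)

variable (hq : q = 2 * N)
include hq

theorem orderOf_z : orderOf (rt e (N : ZMod q)) = 2 := by
  refine orderOf_eq_prime ?_ fun h => j_ne_zero (j := N) hq (rt_injective e (h.trans (rt_zero e).symm))
  rw [pow_two, rt_mul, cast_two_mul (j := N) hq, rt_zero]

theorem z_commute {y : G} (hy : y ∈ D) : rt e (N : ZMod q) * y = y * rt e (N : ZMod q) := by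
  obtain ⟨g, hg⟩ := e.surjective ⟨y, hy⟩
  obtain rfl : ((e g : D) : G) = y := congrArg Subtype.val hg
  rw [rt, ← Subgroup.coe_mul, ← Subgroup.coe_mul, ← map_mul, ← map_mul,
    rj_commute (j := N) hq g]

theorem le_centralizer_z : D ≤ Subgroup.centralizer ({rt e (N : ZMod q)} : Set G) := fun _ hy =>
  Subgroup.mem_centralizer_singleton_iff.2 (z_commute e hq hy).symm

variable {m : ℕ} (hN : N = 2 ^ m)
include hN

/-- Every nontrivial rotation has `z` among its powers. -/
theorem z_mem_zpowers {a : ZMod q} (ha : a ≠ 0) :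
    rt e (N : ZMod q) ∈ Subgroup.zpowers (rt e a) := by
  have h1 : orderOf (rt e a) ∣ 2 ^ (m + 1) := by
    refine orderOf_dvd_of_pow_eq_one ?_
    rw [rt_pow, pow_succ', ← hN, ← hq, ZMod.natCast_self, zero_mul, rt_zero]
  obtain ⟨i, -, hi⟩ := (Nat.dvd_prime_pow Nat.prime_two).1 h1
  rcases i with _ | i
  · rw [pow_zero, orderOf_eq_one_iff] at hi
    exact absurd (rt_injective e (hi.trans (rt_zero e).symm)) ha
  · have h2 : rt e a ^ (2 ^ i) ≠ 1 := pow_ne_one_of_lt_orderOf (by positivity) (by
      rw [hi, pow_succ]; exact lt_mul_of_one_lt_right (by positivity) one_lt_two)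
    have h3 : (rt e a ^ (2 ^ i)) * rt e a ^ (2 ^ i) = 1 := by
      rw [← pow_add, ← two_mul, ← pow_succ', ← hi, pow_orderOf_eq_one]
    rw [rt_pow, rt_mul, ← rt_zero e] at h3
    rcases two_torsion (j := N) hq (rt_injective e h3) with h4 | h4
    · exact absurd (by rw [rt_pow, h4, rt_zero]) h2
    · exact ⟨(2 ^ i : ℕ), by simp only [zpow_natCast]; rw [rt_pow, h4]⟩

/-- An element of odd order fixing `z` and normalising a subgroup of `D` centralises it. -/
theorem commute_of_normalizer {Q : Subgroup G} (hQ : Q ≤ D) {x : G}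
    (hx : Odd (orderOf x)) (hxz : x * rt e (N : ZMod q) = rt e (N : ZMod q) * x)
    (hxQ : x ∈ Subgroup.normalizer (Q : Set G)) : ∀ y ∈ Q, x * y = y * x := by
  have hmem : ∀ y ∈ Q, x * y * x⁻¹ ∈ Q := fun y hy =>
    (Subgroup.mem_normalizer_iff.1 hxQ y).1 hy
  have hord : ∀ y : G, orderOf (x * y * x⁻¹) = orderOf y := fun y => MulEquiv.orderOf_eq (MulAut.conj x) y
  have hsmall : ∀ a : ZMod q, a + a = 0 → x * rt e a = rt e a * x := fun a ha => by
    rcases two_torsion (j := N) hq ha with rfl | rfl
    · simp [rt_zero]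
    · exact hxz
  -- rotations
  have hrot : ∀ k : ℕ, ∀ a : ZMod q, orderOf (rt e a) = k → rt e a ∈ Q →
      x * rt e a = rt e a * x := by
    intro k
    induction k using Nat.strong_induction_on with
    | _ k ih =>
      intro a hk haQ
      by_cases ha : a + a = 0
      · exact hsmall a ha
      have h2 : rt e a * rt e a ≠ 1 := fun h => ha (rt_injective e (by
        rw [← rt_mul, h, rt_zero]))
      have hlt : orderOf (rt e (a + a)) < k := by
        rw [← rt_mul, ← pow_two, ← hk]
        have hev : 2 ∣ orderOf (rt e a) := by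
          obtain ⟨i, hi⟩ := Subgroup.mem_zpowers_iff.1
            (z_mem_zpowers e hq hN (a := a) fun h => ha (by rw [h, add_zero]))
          rw [← orderOf_z e hq, ← hi]
          exact orderOf_dvd_of_pow_eq_one (by
            rw [← zpow_natCast, ← zpow_mul, mul_comm, zpow_mul, zpow_natCast, pow_orderOf_eq_one,
              one_zpow])
        rw [orderOf_pow' _ two_ne_zero, Nat.gcd_eq_right hev]
        exact Nat.div_lt_self (orderOf_pos _) one_lt_two
      have hfix := ih _ hlt (a + a) rfl (by rw [← rt_mul]; exact Q.mul_mem haQ haQ)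
      obtain ⟨b, hb⟩ : ∃ b, x * rt e a * x⁻¹ = rt e b := by
        rcases exists_rt_or_rf e (hQ (hmem _ haQ)) with h | ⟨i, hi⟩
        · exact h
        · exfalso
          refine h2 ?_
          have h3 : x * (rt e a * rt e a) * x⁻¹ = 1 := by
            rw [show x * (rt e a * rt e a) * x⁻¹ = x * rt e a * x⁻¹ * (x * rt e a * x⁻¹) by group,
              hi, rf_mul_self]
          exact conj_eq_one_iff.1 h3
      have hbb : b + b = a + a := rt_injective e (by
        rw [← rt_mul, ← hb, show x * rt e a * x⁻¹ * (x * rt e a * x⁻¹) =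
          x * (rt e a * rt e a) * x⁻¹ by group, rt_mul, hfix, mul_inv_cancel_right])
      have hc : (b - a) + (b - a) = 0 := by
        rw [show (b - a) + (b - a) = (b + b) - (a + a) by abel, hbb, sub_self]
      have h1 := eq_one_of_shift (y := rt e a) hx (by rw [rt_mul, hc, rt_zero]) (hsmall _ hc)
        (show x * rt e a * x⁻¹ = rt e a * rt e (b - a) by rw [hb, rt_mul, add_sub_cancel])
      rw [← rt_zero e] at h1
      rw [← mul_inv_eq_iff_eq_mul, hb, sub_eq_zero.1 (rt_injective e h1)]
  intro y hy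
  rcases exists_rt_or_rf e (hQ hy) with ⟨a, rfl⟩ | ⟨i, rfl⟩
  · exact hrot _ a rfl hy
  obtain ⟨a, ha⟩ : ∃ a, x * rf e i * x⁻¹ = rf e i * rt e a := by
    rcases exists_rt_or_rf e (hQ (hmem _ hy)) with ⟨b, hb⟩ | ⟨k, hk⟩
    · exfalso
      have h1 : x * rt e b = rt e b * x := hrot _ b rfl (hb ▸ hmem _ hy)
      have h2 : rf e i = rt e b := by
        calc rf e i = x⁻¹ * (x * rf e i * x⁻¹) * x := by group
          _ = x⁻¹ * (rt e b * x) := by rw [hb, mul_assoc]
          _ = rt e b := by rw [← h1, inv_mul_cancel_left]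
      exact rt_ne_rf e b i h2.symm
    · exact ⟨k - i, by
        rw [hk, rf, rf, rt, ← Subgroup.coe_mul, ← map_mul, sr_mul_r, add_sub_cancel]⟩
  have haQ : rt e a ∈ Q := by
    have h := Q.mul_mem (Q.inv_mem hy) (hmem _ hy)
    rwa [ha, inv_mul_cancel_left] at h
  have hfix := hrot _ a rfl haQ
  have hpow : ∀ k : ℕ, x ^ k * rf e i * (x ^ k)⁻¹ = rf e i * rt e a ^ k := by
    intro k
    induction k with
    | zero => simp
    | succ k ih =>
      rw [show x ^ (k + 1) * rf e i * (x ^ (k + 1))⁻¹ = x * (x ^ k * rf e i * (x ^ k)⁻¹) * x⁻¹ by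
        rw [pow_succ']; group, ih,
        show x * (rf e i * rt e a ^ k) * x⁻¹ = x * rf e i * x⁻¹ * (x * rt e a ^ k * x⁻¹) by group,
        ha, (Commute.pow_right (show Commute x (rt e a) from hfix) k).eq, mul_inv_cancel_right,
        pow_succ', mul_assoc]
  have h1 : rt e a ^ orderOf x = 1 := by
    have := hpow (orderOf x)
    simpa [pow_orderOf_eq_one] using this
  have h2 : orderOf (rt e a) ∣ 2 ^ (m + 1) := orderOf_dvd_of_pow_eq_one (by
    rw [rt_pow, pow_succ', ← hN, ← hq, ZMod.natCast_self, zero_mul, rt_zero])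
  have h3 : rt e a = 1 := orderOf_eq_one_iff.1 (Nat.eq_one_of_dvd_coprimes
    ((Nat.coprime_two_right.2 hx).pow_right (m + 1)) (orderOf_dvd_of_pow_eq_one h1) h2)
  rw [← mul_inv_eq_iff_eq_mul, ha, h3, mul_one]

end Embed

end CfsgLib.DihedralDefect
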