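import Mathlib

/-!
# The integer lattice of a 2-block with dihedral defect group

Integer vectors with the Gram matrix of the coordinates on the rotations determine the number
of characters, up to one exceptional configuration of five members when `N = 4`.
-/

set_option autoImplicit false
set_option linter.unusedSectionVars false

namespace CfsgLib.DihedralDefect

variable {ι : Type*} [Fintype ι] [DecidableEq ι]

/-- The value at the central involution from the coordinates. -/
def midVal (N : ℕ) (d : ℕ → ι → ℤ) (i : ι) : ℤ :=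
  d N i + 2 * ∑ k ∈ Finset.Ico 1 N, (-1 : ℤ) ^ k * d k i

theorem alt_sum {h : ℕ} (heven : Even h) (hpos : 0 < h) :
    ∑ k ∈ Finset.Ico 1 h, ((-1 : ℤ) ^ k) = -1 := by
  have := neg_one_geom_sum (R := ℤ) (n := h)
  rw [if_pos heven, Finset.range_eq_Ico, Finset.sum_eq_sum_Ico_succ_bot hpos, pow_zero] at this
  linarith

theorem mul_sign {a b : ℤ} (ha : a = 1 ∨ a = -1) (hb : b = 1 ∨ b = -1) :
    a * b = 1 ∨ a * b = -1 := by
  rcases ha with rfl | rfl <;> rcases hb with rfl | rfl <;> simp

theorem sq_eq_one_of_sign {a : ℤ} (ha : a = 1 ∨ a = -1) : a * a = 1 := by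
  rcases ha with rfl | rfl <;> rfl

/-- An integer vector of square sum two. -/
theorem norm_two {f : ι → ℤ} (h : ∑ i, f i ^ 2 = 2) :
    ∃ a b, a ≠ b ∧ (f a = 1 ∨ f a = -1) ∧ (f b = 1 ∨ f b = -1) ∧
      ∀ i, i ≠ a → i ≠ b → f i = 0 := by
  have hsmall : ∀ i, f i = 0 ∨ f i = 1 ∨ f i = -1 := fun i => by
    have : f i ^ 2 ≤ 2 := h ▸ Finset.single_le_sum (fun j _ => sq_nonneg (f j)) (Finset.mem_univ i)
    have h1 : f i ≤ 1 := by nlinarith
    have h2 : -1 ≤ f i := by nlinarith
    omega
  set S := Finset.univ.filter (fun i => f i ≠ 0)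
  have hS : S.card = 2 := by
    have : ∑ i, f i ^ 2 = (S.card : ℤ) := by
      rw [Finset.card_filter, Nat.cast_sum]
      refine Finset.sum_congr rfl fun i _ => ?_
      rcases hsmall i with e | e | e <;> simp [e]
    omega
  obtain ⟨a, b, hab, hSe⟩ := Finset.card_eq_two.1 hS
  have hne : ∀ i, f i ≠ 0 ↔ i = a ∨ i = b := fun i => by
    have := Finset.ext_iff.1 hSe i
    simpa [S] using this
  exact ⟨a, b, hab, (hsmall a).resolve_left ((hne a).2 (Or.inl rfl)),
    (hsmall b).resolve_left ((hne b).2 (Or.inr rfl)), fun i h1 h2 => by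
      by_contra hc; exact ((hne i).1 hc).elim h1 h2⟩

theorem sum_pair_supp {R : Type*} [CommRing R] {f : ι → R} {a b : ι} (hab : a ≠ b)
    (hout : ∀ i, i ≠ a → i ≠ b → f i = 0) (g : ι → R) :
    ∑ i, f i * g i = f a * g a + f b * g b := by
  rw [← Finset.sum_subset (Finset.subset_univ {a, b}) (fun i _ hi => by
    simp only [Finset.mem_insert, Finset.mem_singleton, not_or] at hi
    rw [hout i hi.1 hi.2, zero_mul]), Finset.sum_pair hab]

/-- The shape of a vector of norm three having product two with a sign vector of weight four. -/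
structure PairVec (v w : ι → ℤ) (P : Finset ι) (x : ι) (s : ℤ) : Prop where
  card : P.card = 2
  supp : ∀ i ∈ P, v i ≠ 0
  x_out : v x = 0
  sign : s = 1 ∨ s = -1
  eq_P : ∀ i ∈ P, w i = v i
  eq_x : w x = s
  eq_zero : ∀ i ∉ P, i ≠ x → w i = 0

theorem exists_pairVec {v w : ι → ℤ} (hv : ∀ i, v i = 0 ∨ v i = 1 ∨ v i = -1)
    (hw : ∑ i, w i ^ 2 = 3) (hvw : ∑ i, w i * v i = 2) : ∃ P x s, PairVec v w P x s := by
  have hsmall : ∀ i, w i = 0 ∨ w i = 1 ∨ w i = -1 := fun i => by
    have : w i ^ 2 ≤ 3 := hw ▸ Finset.single_le_sum (fun j _ => sq_nonneg (w j)) (Finset.mem_univ i)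
    have h1 : w i ≤ 1 := by nlinarith
    have h2 : -1 ≤ w i := by nlinarith
    omega
  set S := Finset.univ.filter (fun i => w i ≠ 0)
  set A := Finset.univ.filter (fun i => w i * v i = 1)
  set A' := Finset.univ.filter (fun i => w i * v i = -1)
  have hS : S.card = 3 := by
    have : ∑ i, w i ^ 2 = (S.card : ℤ) := by
      rw [Finset.card_filter, Nat.cast_sum]
      refine Finset.sum_congr rfl fun i _ => ?_
      rcases hsmall i with e | e | e <;> simp [e]
    omega
  have hdiff : (A.card : ℤ) - A'.card = 2 := by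
    rw [← hvw, Finset.card_filter, Finset.card_filter, Nat.cast_sum, Nat.cast_sum,
      ← Finset.sum_sub_distrib]
    refine Finset.sum_congr rfl fun i _ => ?_
    rcases hsmall i with e | e | e <;> rcases hv i with f | f | f <;> simp [e, f]
  have hdisj : Disjoint A A' := Finset.disjoint_filter.2 fun i _ h1 h2 => by omega
  have hsub : A ∪ A' ⊆ S := fun i hi => by
    simp only [A, A', S, Finset.mem_union, Finset.mem_filter, Finset.mem_univ, true_and] at hi ⊢
    rintro h0
    simp [h0] at hi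
  have hle := Finset.card_le_card hsub
  rw [Finset.card_union_of_disjoint hdisj, hS] at hle
  have hA : A.card = 2 := by omega
  have hA' : A' = ∅ := Finset.card_eq_zero.1 (by omega)
  have hAS : A ⊆ S := Finset.union_subset_left hsub
  obtain ⟨x, hx⟩ : ∃ x, S \ A = {x} := Finset.card_eq_one.1 (by
    rw [Finset.card_sdiff_of_subset hAS]; omega)
  have hxS : x ∈ S \ A := hx ▸ Finset.mem_singleton_self x
  obtain ⟨hxS, hxA⟩ := Finset.mem_sdiff.1 hxS
  have hwx := (hsmall x).resolve_left (by simpa [S] using hxS)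
  refine ⟨A, x, w x, hA, fun i hi h0 => by simp [A, h0] at hi, ?_, hwx, fun i hi => ?_, rfl,
    fun i hi hix => ?_⟩
  · rcases hv x with e | e | e
    · exact e
    all_goals
      exfalso
      have h1 : x ∉ A' := by rw [hA']; simp
      rcases hwx with f | f <;> simp [A, A', e, f] at h1 hxA
  · simp only [A, Finset.mem_filter, Finset.mem_univ, true_and] at hi
    rcases hsmall i with e | e | e <;> rcases hv i with f | f | f <;> simp [e, f] at hi ⊢
  · by_contra h0
    have : i ∈ S \ A := Finset.mem_sdiff.2 ⟨by simp [S, h0], hi⟩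
    rw [hx, Finset.mem_singleton] at this
    exact hix this

theorem PairVec.notMem {v w : ι → ℤ} {P : Finset ι} {x : ι} {s : ℤ} (h : PairVec v w P x s) :
    x ∉ P := fun hx => h.supp x hx h.x_out

theorem PairVec.dot {v w : ι → ℤ} {P : Finset ι} {x : ι} {s : ℤ} (h : PairVec v w P x s)
    {R : Type*} [CommRing R] (f : ι → R) :
    ∑ i, (w i : R) * f i = (∑ i ∈ P, (v i : R) * f i) + (s : R) * f x := by
  rw [← Finset.sum_subset (Finset.subset_univ (insert x P)) (fun i _ hi => by
      simp only [Finset.mem_insert, not_or] at hi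
      rw [h.eq_zero i hi.2 hi.1, Int.cast_zero, zero_mul]),
    Finset.sum_insert h.notMem, h.eq_x, add_comm]
  congr 1
  exact Finset.sum_congr rfl fun i hi => by rw [h.eq_P i hi]

/-- Vectors of norm two with mutual products one are independent. -/
theorem card_le_of_gram {κ : Type*} [Fintype κ] [DecidableEq κ] (u : κ → ι → ℤ) (S : Finset ι)
    (hout : ∀ k, ∀ i ∉ S, u k i = 0)
    (hg : ∀ k k', ∑ i, u k i * u k' i = if k = k' then 2 else 1) :
    Fintype.card κ ≤ S.card := by
  let U : κ → S → ℚ := fun k i => (u k i : ℚ)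
  have hdot : ∀ k k', ∑ i : S, U k i * U k' i = if k = k' then 2 else 1 := fun k k' => by
    simp only [U]
    rw [Finset.sum_coe_sort S (fun i => (u k i : ℚ) * (u k' i : ℚ)),
      Finset.sum_subset (Finset.subset_univ S) (fun i _ hi => by
        rw [hout k i hi, Int.cast_zero, zero_mul])]
    have := congrArg (fun z : ℤ => (z : ℚ)) (hg k k')
    push_cast at this
    rw [this]
  have hli : LinearIndependent ℚ U := by
    rw [Fintype.linearIndependent_iff]
    intro a ha
    have h1 : ∀ k', a k' + ∑ k, a k = 0 := fun k' => by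
      have h2 : ∑ i : S, (∑ k, a k * U k i) * U k' i = 0 := Finset.sum_eq_zero fun i _ => by
        have := congrFun ha i
        simp only [Finset.sum_apply, Pi.smul_apply, smul_eq_mul, Pi.zero_apply] at this
        rw [this, zero_mul]
      simp only [Finset.sum_mul, mul_assoc] at h2
      rw [Finset.sum_comm] at h2
      simp only [← Finset.mul_sum, hdot] at h2
      rw [Finset.sum_congr rfl (fun k _ =>
        show a k * (if k = k' then (2 : ℚ) else 1) = (if k = k' then a k else 0) + a k by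
          split_ifs <;> ring), Finset.sum_add_distrib, Finset.sum_ite_eq',
        if_pos (Finset.mem_univ _)] at h2
      exact h2
    intro k
    have hT : ∑ k, a k = 0 := by
      have h3 : ∑ k', (a k' + ∑ k, a k) = 0 := Finset.sum_eq_zero fun k' _ => h1 k'
      rw [Finset.sum_add_distrib, Finset.sum_const, nsmul_eq_mul, ← one_add_mul, mul_eq_zero] at h3
      exact h3.resolve_left (by positivity)
    have := h1 k
    rwa [hT, add_zero] at this
  have := hli.fintype_card_le_finrank
  rwa [Module.finrank_fintype_fun_eq_card, Fintype.card_coe] at this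

theorem four_pairs : ∀ P ∈ (Finset.univ : Finset (Fin 4)).powersetCard 2,
    ∀ Q ∈ (Finset.univ : Finset (Fin 4)).powersetCard 2,
    ∀ R ∈ (Finset.univ : Finset (Fin 4)).powersetCard 2,
    ∀ S ∈ (Finset.univ : Finset (Fin 4)).powersetCard 2,
      (P ∩ Q).card = 1 → (P ∩ R).card = 1 → (P ∩ S).card = 1 → (Q ∩ R).card = 1 →
        (Q ∩ S).card = 1 → (R ∩ S).card = 1 → False := by decide

variable {m N : ℕ} {d : ℕ → ι → ℤ}

/-- The hypotheses on the coordinates. -/
structure Gram (m N : ℕ) (d : ℕ → ι → ℤ) : Prop where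
  hm : 1 ≤ m
  hN : N = 2 ^ m
  gram : ∀ a c, 1 ≤ a → a ≤ N → 1 ≤ c → c ≤ N → ∑ i, d a i * d c i =
    2 + (if a = c then 1 else 0) + (if a = N ∧ c = N then 1 else 0)
  ne_zero : ∀ i, midVal N d i ≠ 0

namespace Gram

variable (h : Gram m N d)
include h

theorem N_even : Even N := h.hN ▸ Nat.even_pow.2 ⟨even_two, by have := h.hm; omega⟩

theorem two_le : 2 ≤ N := by
  rw [h.hN]
  calc 2 = 2 ^ 1 := rfl
    _ ≤ _ := Nat.pow_le_pow_right two_pos h.hm

theorem dot_mid (a : ℕ) (ha1 : 1 ≤ a) (ha2 : a ≤ N) :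
    ∑ i, midVal N d i * d a i = if a = N then 0 else -2 + 2 * (-1 : ℤ) ^ a := by
  have hN2 := h.two_le
  have e : ∑ i, midVal N d i * d a i = (∑ i, d N i * d a i) +
      2 * ∑ k ∈ Finset.Ico 1 N, (-1 : ℤ) ^ k * ∑ i, d k i * d a i := by
    simp only [midVal, add_mul, Finset.sum_add_distrib, Finset.mul_sum, Finset.sum_mul]
    congr 1
    rw [Finset.sum_comm]
    exact Finset.sum_congr rfl fun k _ => Finset.sum_congr rfl fun i _ => by ring
  rw [e, h.gram N a (by omega) le_rfl ha1 ha2, Finset.sum_congr rfl (fun k hk => by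
    rw [h.gram k a (Finset.mem_Ico.1 hk).1 (Finset.mem_Ico.1 hk).2.le ha1 ha2,
      if_neg (show ¬ (k = N ∧ a = N) from fun hh => (Finset.mem_Ico.1 hk).2.ne hh.1), add_zero,
      mul_add, mul_ite, mul_one, mul_zero] : ∀ k ∈ Finset.Ico 1 N,
        (-1 : ℤ) ^ k * ∑ i, d k i * d a i =
          (-1 : ℤ) ^ k * 2 + if k = a then (-1 : ℤ) ^ k else 0),
    Finset.sum_add_distrib, ← Finset.sum_mul, alt_sum h.N_even (by omega), Finset.sum_ite_eq']
  by_cases hb : a = N
  · subst hb; simp
  · rw [if_pos (Finset.mem_Ico.2 ⟨ha1, by omega⟩), if_neg (fun hc => hb hc.symm),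
      if_neg (show ¬ (N = N ∧ a = N) from fun hc => hb hc.2), if_neg hb]
    ring

theorem mid_sq : ∑ i, midVal N d i ^ 2 = 4 * N := by
  have hN2 := h.two_le
  have e : ∑ i, midVal N d i ^ 2 = (∑ i, midVal N d i * d N i) +
      2 * ∑ k ∈ Finset.Ico 1 N, (-1 : ℤ) ^ k * ∑ i, midVal N d i * d k i := by
    rw [Finset.sum_congr rfl (fun i _ => show midVal N d i ^ 2 = midVal N d i * d N i +
      ∑ k ∈ Finset.Ico 1 N, 2 * ((-1 : ℤ) ^ k * (midVal N d i * d k i)) by
        rw [← Finset.mul_sum, pow_two]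
        nth_rewrite 2 [midVal]
        rw [mul_add, Finset.mul_sum, Finset.mul_sum, Finset.mul_sum]
        congr 1
        exact Finset.sum_congr rfl fun k _ => by ring), Finset.sum_add_distrib, Finset.sum_comm]
    simp only [Finset.mul_sum]
  rw [e, h.dot_mid N (by omega) le_rfl, if_pos rfl, Finset.sum_congr rfl (fun k hk => by
    rw [h.dot_mid k (Finset.mem_Ico.1 hk).1 (Finset.mem_Ico.1 hk).2.le,
      if_neg (Finset.mem_Ico.1 hk).2.ne, mul_add, mul_left_comm _ 2, ← pow_add, ← two_mul,
      pow_mul, neg_one_sq, one_pow] : ∀ k ∈ Finset.Ico 1 N,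
        (-1 : ℤ) ^ k * ∑ i, midVal N d i * d k i = (-1 : ℤ) ^ k * (-2) + 2 * 1),
    Finset.sum_add_distrib, ← Finset.sum_mul, alt_sum h.N_even (by omega), Finset.sum_const,
    Nat.card_Ico]
  simp only [nsmul_eq_mul]
  push_cast [Nat.cast_sub (show 1 ≤ N by omega)]
  ring

theorem v_small : ∀ i, d N i = 0 ∨ d N i = 1 ∨ d N i = -1 := by
  have hN2 := h.two_le
  have hvv : ∑ i, d N i * d N i = 4 := by rw [h.gram N N (by omega) le_rfl (by omega) le_rfl]; simp
  intro i
  have hle : d N i * d N i ≤ 4 :=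
    hvv ▸ Finset.single_le_sum (fun j _ => mul_self_nonneg (d N j)) (Finset.mem_univ i)
  have h1 : d N i ≤ 2 := by nlinarith
  have h2 : -2 ≤ d N i := by nlinarith
  by_contra hcon
  have h22 : d N i = 2 ∨ d N i = -2 := by omega
  have hrest : ∀ j, j ≠ i → d N j = 0 := fun j hj => by
    have := Finset.add_sum_erase Finset.univ (fun j => d N j * d N j) (Finset.mem_univ i)
    rw [hvv] at this
    have h0 : ∑ j ∈ Finset.univ.erase i, d N j * d N j = 0 := by
      rcases h22 with e | e <;> simp only [e] at this <;> linarith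
    exact mul_self_eq_zero.1 ((Finset.sum_eq_zero_iff_of_nonneg
      fun j _ => mul_self_nonneg (d N j)).1 h0 j (Finset.mem_erase.2 ⟨hj, Finset.mem_univ _⟩))
  have hd := h.dot_mid N (by omega) le_rfl
  rw [if_pos rfl, Finset.sum_eq_single i (fun j _ hj => by rw [hrest j hj, mul_zero])
    (fun hh => absurd (Finset.mem_univ _) hh)] at hd
  rcases mul_eq_zero.1 hd with e | e
  · exact h.ne_zero i e
  · omega

/-- The four places where the middle value is odd. -/
theorem card_supp : (Finset.univ.filter fun i => d N i ≠ 0).card = 4 := by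
  have hN2 := h.two_le
  have hvv := h.gram N N (by omega) le_rfl (by omega) le_rfl
  have : ∑ i, d N i * d N i = ((Finset.univ.filter fun i => d N i ≠ 0).card : ℤ) := by
    rw [Finset.card_filter, Nat.cast_sum]
    refine Finset.sum_congr rfl fun i _ => ?_
    rcases h.v_small i with e | e | e <;> simp [e]
  rw [this] at hvv
  simp only [and_self, if_true] at hvv
  omega

theorem odd_mid_iff (i : ι) : Odd (midVal N d i) ↔ d N i ≠ 0 := by
  rw [midVal, Int.odd_iff]
  rcases h.v_small i with e | e | e <;> rw [e] <;> omega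

theorem sq_ge_out {i : ι} (hi : d N i = 0) :
    midVal N d i ^ 2 = 4 ∨ 16 ≤ midVal N d i ^ 2 := by
  have h0 := h.ne_zero i
  have hev : Even (midVal N d i) := by
    rw [← Int.not_odd_iff_even, h.odd_mid_iff]; simp [hi]
  obtain ⟨t, ht⟩ := hev
  rw [ht] at h0 ⊢
  rcases (show t = 1 ∨ t = -1 ∨ 2 ≤ t ∨ t ≤ -2 by omega) with rfl | rfl | e | e
  · left; norm_num
  · left; norm_num
  · right; nlinarith
  · right; nlinarith

theorem sum_split :
    (∑ i ∈ Finset.univ.filter (fun i => d N i ≠ 0), midVal N d i ^ 2) +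
      ∑ i ∈ Finset.univ.filter (fun i => ¬ d N i ≠ 0), midVal N d i ^ 2 = 4 * N := by
  rw [Finset.sum_filter_add_sum_filter_not, h.mid_sq]

/-- The conclusion once all but two of the expected places are present. -/
theorem conclusion_of_le
    (hout : N ≤ (Finset.univ.filter fun i => ¬ d N i ≠ 0).card + 2) :
    Fintype.card ι = N + 3 ∧ (Finset.univ.filter fun i => Odd (midVal N d i)).card = 4 ∧
      ∀ i, |midVal N d i| ≤ 2 := by
  set O := Finset.univ.filter fun i => d N i ≠ 0 with hO
  set T := Finset.univ.filter fun i => ¬ d N i ≠ 0 with hT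
  have hsplit := h.sum_split
  rw [← hO, ← hT] at hsplit
  have hodd : ∀ i ∈ O, midVal N d i ^ 2 % 8 = 1 ∧ 1 ≤ midVal N d i ^ 2 := fun i hi => by
    obtain ⟨t, ht⟩ := (h.odd_mid_iff i).2 (Finset.mem_filter.1 hi).2
    obtain ⟨w, hw⟩ := Int.even_mul_succ_self t
    rw [ht, show (2 * t + 1) ^ 2 = 4 * (t * (t + 1)) + 1 by ring, hw]
    refine ⟨by omega, ?_⟩
    have : 0 ≤ t * (t + 1) := by nlinarith [sq_nonneg (2 * t + 1)]
    omega
  have hOmod : (∑ i ∈ O, midVal N d i ^ 2) % 8 = 4 := by
    rw [Finset.sum_int_mod, Finset.sum_congr rfl fun i hi => (hodd i hi).1, Finset.sum_const,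
      h.card_supp]
    rfl
  have hO4 : (4 : ℤ) ≤ ∑ i ∈ O, midVal N d i ^ 2 := by
    have := Finset.card_nsmul_le_sum O (fun i => midVal N d i ^ 2) 1 fun i hi => (hodd i hi).2
    rwa [h.card_supp] at this
  have hTge : ∀ i ∈ T, (4 : ℤ) ≤ midVal N d i ^ 2 := fun i hi => by
    rcases h.sq_ge_out (not_not.1 (Finset.mem_filter.1 hi).2) with e | e <;> omega
  have hT4 := Finset.card_nsmul_le_sum T (fun i => midVal N d i ^ 2) 4 hTge
  rw [nsmul_eq_mul] at hT4
  have hTcases : (∑ i ∈ T, midVal N d i ^ 2 = 4 * T.card) ∨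
      4 * (T.card : ℤ) + 12 ≤ ∑ i ∈ T, midVal N d i ^ 2 := by
    by_cases hall : ∀ i ∈ T, midVal N d i ^ 2 = 4
    · left; rw [Finset.sum_congr rfl hall, Finset.sum_const, nsmul_eq_mul, mul_comm]
    · right
      push Not at hall
      obtain ⟨i, hi, hne⟩ := hall
      have h16 : 16 ≤ midVal N d i ^ 2 :=
        (h.sq_ge_out (not_not.1 (Finset.mem_filter.1 hi).2)).resolve_left hne
      have := Finset.card_nsmul_le_sum (T.erase i) (fun i => midVal N d i ^ 2) 4
        fun j hj => hTge j (Finset.mem_of_mem_erase hj)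
      rw [nsmul_eq_mul, Finset.card_erase_of_mem hi, Nat.cast_sub
        (Finset.card_pos.2 ⟨i, hi⟩)] at this
      rw [← Finset.add_sum_erase T _ hi]
      push_cast at this
      linarith
  have hT1 : T.card + 1 = N := by
    rcases hTcases with e | e <;> omega
  have hcard : Fintype.card ι = O.card + T.card := by
    rw [hO, hT, Finset.card_filter_add_card_filter_not, Finset.card_univ]
  refine ⟨by rw [hcard, h.card_supp]; omega, ?_, fun i => ?_⟩
  · rw [Finset.filter_congr fun i _ => h.odd_mid_iff i]; exact h.card_supp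
  have hOeq : ∑ i ∈ O, midVal N d i ^ 2 = 4 := by omega
  have hTeq : ∑ i ∈ T, midVal N d i ^ 2 = 4 * T.card := by omega
  have hsq : midVal N d i ^ 2 ≤ 4 := by
    by_cases hi : d N i ≠ 0
    · exact hOeq ▸ Finset.single_le_sum (fun j _ => sq_nonneg _)
        (Finset.mem_filter.2 ⟨Finset.mem_univ i, hi⟩)
    · have hiT : i ∈ T := Finset.mem_filter.2 ⟨Finset.mem_univ i, hi⟩
      have h0 : ∑ j ∈ T, (midVal N d j ^ 2 - 4) = 0 := by
        rw [Finset.sum_sub_distrib, hTeq, Finset.sum_const, nsmul_eq_mul, mul_comm]; ring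
      have := (Finset.sum_eq_zero_iff_of_nonneg
        fun j hj => by have := hTge j hj; omega).1 h0 i hiT
      omega
  rw [abs_le]
  constructor <;> nlinarith

theorem u_dot {a c : ℕ} (ha : a % 2 = 1) (ha3 : 3 ≤ a) (haN : a < N) (hc : c % 2 = 1)
    (hc3 : 3 ≤ c) (hcN : c < N) :
    ∑ i, (d 1 i - d a i) * (d 1 i - d c i) = if a = c then 2 else 1 := by
  simp only [sub_mul, mul_sub, Finset.sum_sub_distrib]
  rw [h.gram 1 1 le_rfl (by omega) le_rfl (by omega), h.gram 1 c le_rfl (by omega) (by omega) hcN.le,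
    h.gram a 1 (by omega) haN.le le_rfl (by omega), h.gram a c (by omega) haN.le (by omega) hcN.le]
  split_ifs <;> omega

theorem u_dot_v {a : ℕ} (ha3 : 3 ≤ a) (haN : a < N) :
    ∑ i, (d 1 i - d a i) * d N i = 0 := by
  simp only [sub_mul, Finset.sum_sub_distrib]
  rw [h.gram 1 N le_rfl (by omega) (by omega) le_rfl, h.gram a N (by omega) haN.le (by omega) le_rfl]
  split_ifs <;> omega

theorem u_dot_w {a j : ℕ} (ha : a % 2 = 1) (ha3 : 3 ≤ a) (haN : a < N) (hj : j % 2 = 0)
    (hj2 : 2 ≤ j) (hjN : j < N) :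
    ∑ i, (d j i) * (d 1 i - d a i) = 0 := by
  simp only [mul_sub, Finset.sum_sub_distrib]
  rw [h.gram j 1 (by omega) hjN.le le_rfl (by omega), h.gram j a (by omega) hjN.le (by omega) haN.le]
  split_ifs <;> omega

theorem exists_w {j : ℕ} (hj2 : 2 ≤ j) (hjN : j < N) :
    ∃ P x s, PairVec (d N) (d j) P x s := by
  refine exists_pairVec h.v_small ?_ ?_
  · have := h.gram j j (by omega) hjN.le (by omega) hjN.le
    rw [if_pos rfl, if_neg (fun hc => hjN.ne hc.1), add_zero] at this
    simpa [pow_two] using this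
  · rw [h.gram j N (by omega) hjN.le (by omega) le_rfl, if_neg hjN.ne,
      if_neg (fun hc => hjN.ne hc.1)]
    ring

end Gram

end CfsgLib.DihedralDefect
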