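import Cfsg.Agent.Lib.Blocks.CyclicNilpotent
import Cfsg.Agent.Lib.NilBlk.Main
import Cfsg.Agent.Lib.BlockCover.DefectGroup

/-!
# The nilpotent block at a central involution of the defect group

For a central involution `z` of a defect group `D` of the 2-block `B`, a block of `C(z)` with
defect group `D` induces `B`; it is nilpotent when elements of odd order of `C(z)` normalising a
subgroup of `D` centralise it.
-/

set_option autoImplicit false
set_option linter.unusedSectionVars false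
set_option linter.style.haveILetI false

namespace CfsgLib.DihedralDefect

open Cfsg MonoidAlgebra CfsgLib.Blocks CfsgLib.BrauerPairs CfsgLib.Characters CfsgLib.NilBlk
open scoped Classical

universe u

/-- The centraliser of `z`. -/
abbrev Hz {G : Type u} [Group G] (z : G) : Subgroup G := Subgroup.centralizer ({z} : Set G)

variable {G : Type u} [Group G] [Fintype G] {p : ℕ} [Fact p.Prime] {M : Ideal AlgInt}
  [M.IsMaximal] {B : Set (IrrCharacter G)} {P : Subgroup G} {e : MonoidAlgebra (ResK M) G}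

/-- The local block at a subgroup centralised by the defect group. -/
theorem exists_block_of_centralized (hM : IsPModular p M) (hB : IsPBlock M B)
    (hD : IsDefectGroup p M B P) (he : IsBlockIdem (cz P) e)
    (hcov : brMap (ResK M) P (eG hM B) * e = e) {Q K : Subgroup G} (hQP : Q ≤ P)
    (hPH : P ≤ cz Q) (hK : K = cz Q) :
    ∃ f : Set (IrrCharacter K), IsInducedBlock M K f B ∧
      IsDefectGroup p M f (P.subgroupOf K) := by
  have := charP_res hM
  have hEb := isBlockIdem_eG hM hB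
  have hD0 := (isDefectGroup_iff hM hB P).1 hD
  have hPp : IsPGroup p P := hD0.pgroup
  have hQp : IsPGroup p Q := hPp.to_le hQP
  have hQc : Q ≤ cz Q := hQP.trans hPH
  obtain ⟨a, ha, hale⟩ := exists_pairLE (p := p) (hasBlocks hM) hQP hPp he
  rw [← hK] at ha
  obtain ⟨f, hf, rfl⟩ := exists_eA_eq hM ha
  have hQB : brMap (ResK M) Q (eG hM B) * eA hM K f = eA hM K f :=
    (brMap_cover_iff hale hEb.fixed hEb.idem).2 hcov
  have hS : BrSetup p Q (eA hM K f) K :=
    ⟨hQp, hK ▸ isBlockIdem_eA hM hf, hK ▸ cz_le_normalizer Q, hK.ge, hK ▸ hQc,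
      (isBlockIdem_eA hM hf).fixed⟩
  have hstep : brMap (ResK M) P (eA hM K f) * e = e := by
    obtain ⟨g, hg⟩ := exists_normalSub (p := p) (hasBlocks hM) hQP
      (hPH.trans (cz_le_normalizer Q)) hPp he
    have : g = eA hM K f := pairLE_unique (hasBlocks hM) (b := (P, e)) he hPp
      (Relation.ReflTransGen.single hg) hale
    exact this ▸ hg.cover
  have hO : OverPair p Q (eA hM K f) K P e := ⟨hPp, hQP, hK ▸ hPH, he, hstep⟩
  have hDQ : IsDefect p Q (eA hM K f) K P :=
    isDefect_local hM hB hS hQB hD0 (hK ▸ hPH) (hS.brMap_ne_zero hO)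
  refine ⟨f, CyclicDefectBound.induced_of_cover hM hQp hQc hK hB hf hQB, ?_⟩
  rw [isDefectGroup_stabilizer_iff hM hS hf rfl,
    Subgroup.map_subgroupOf_eq_of_le (hK ▸ hPH)]
  exact hDQ

variable {z : G} {D : Subgroup G}

/-- The local block is nilpotent. -/
theorem nilpotent_of_commute (hM : IsPModular p M) {H : Subgroup G}
    {c : Set (IrrCharacter H)} (hc : IsPBlock M c) (hdef : IsDefectGroup p M c (D.subgroupOf H))
    (hcomm : ∀ Q : Subgroup G, Q ≤ D → ∀ x ∈ H, ¬ p ∣ orderOf x →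
      x ∈ Subgroup.normalizer (Q : Set G) → ∀ y ∈ Q, x * y = y * x) :
    IsNilpotentBlock p M c := by
  have := charP_res hM
  obtain ⟨eD, hmax⟩ := exists_maximalPair hM hc hdef
  obtain ⟨hP, hD0⟩ := (isMaximalBrauerPair_iff hM c _ eD).1 hmax
  obtain ⟨-, -, hOD⟩ := (isBrauerPairOf_iff hM c _ eD).1 hP
  refine ⟨hc, fun Q e1 hQe x hxN _ hxr => ?_⟩
  obtain ⟨-, -, hO⟩ := (isBrauerPairOf_iff hM c Q e1).1 hQe
  obtain ⟨t, -, ht⟩ := (brSetup_block hM hc).exists_conj_le (hasBlocks hM) hO hD0 hOD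
  set Q' : Subgroup G := (Q.map (MulAut.conj t).toMonoidHom).map H.subtype with hQ'
  have hle : Q' ≤ D := by
    rintro _ ⟨y, hy, rfl⟩
    exact ht.le hy
  have hnorm : ((t * x * t⁻¹ : H) : G) ∈ Subgroup.normalizer (Q' : Set G) := by
    refine Fusion.mem_normalizer_of_forall fun w hw => ?_
    obtain ⟨_, ⟨y, hy, rfl⟩, rfl⟩ := hw
    refine ⟨_, ⟨x * y * x⁻¹, (Subgroup.mem_normalizer_iff.1 hxN y).1 hy, rfl⟩, ?_⟩
    simp [mul_assoc]
  refine mem_cz.2 fun y hy => ?_
  have h1 := hcomm Q' hle _ (t * x * t⁻¹ : H).2 (by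
    rw [Subgroup.orderOf_coe, show t * x * t⁻¹ = MulAut.conj t x from rfl, MulEquiv.orderOf_eq]
    exact hxr) hnorm _ ⟨_, ⟨y, hy, rfl⟩, rfl⟩
  have h2 : (t * x * t⁻¹) * (t * y * t⁻¹) = (t * y * t⁻¹) * (t * x * t⁻¹) := Subtype.ext h1
  have h3 : t * (x * y) * t⁻¹ = t * (y * x) * t⁻¹ := by simpa [mul_assoc] using h2
  exact (mul_left_cancel (mul_right_cancel h3)).symm

/-- The data at `z`. -/
structure Loc (hM : IsPModular p M) (B : Set (IrrCharacter G)) (D : Subgroup G) (z : G) where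
  /-- the block of the centraliser -/
  c : Set (IrrCharacter (Hz z))
  /-- a maximal pair of it -/
  eD : Set (IrrCharacter (Subgroup.centralizer ((D.subgroupOf (Hz z)) : Set (Hz z))))
  ind : IsInducedBlock M (Hz z) c B
  defect : IsDefectGroup p M c (D.subgroupOf (Hz z))
  ctx : NilCtx hM c (D.subgroupOf (Hz z)) eD
  /-- a character of height zero -/
  χ₀ : IrrCharacter (Hz z)
  mem₀ : χ₀ ∈ c
  height₀ : blockHeight p c (χ₀ : Hz z → ℂ) = 0
  /-- its products by the characters of the defect group -/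
  F : IrrCharacter (D.subgroupOf (Hz z)) ≃ c
  F_eq : ∀ f, ((F f : IrrCharacter (Hz z)) : Hz z → ℂ) =
    starC hM c (D.subgroupOf (Hz z)) eD (f : D.subgroupOf (Hz z) → ℂ) (χ₀ : Hz z → ℂ)

theorem exists_loc (hM : IsPModular p M) (hB : IsPBlock M B) (hD : IsDefectGroup p M B D)
    (hz : z ∈ D) (hDz : D ≤ Hz z)
    (hcomm : ∀ Q : Subgroup G, Q ≤ D → ∀ x ∈ Hz z, ¬ p ∣ orderOf x →
      x ∈ Subgroup.normalizer (Q : Set G) → ∀ y ∈ Q, x * y = y * x) :
    Nonempty (Loc hM B D z) := by
  have := charP_res hM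
  obtain ⟨e0, hmax⟩ := exists_maximalPair hM hB hD
  obtain ⟨hP, -⟩ := (isMaximalBrauerPair_iff hM B D e0).1 hmax
  obtain ⟨-, -, hO⟩ := (isBrauerPairOf_iff hM B D e0).1 hP
  have hK : Hz z = cz (Subgroup.zpowers z) := CyclicDefectBound.centralizer_singleton_eq z
  obtain ⟨c, hind, hdef⟩ := exists_block_of_centralized hM hB hD hO.block hO.cover
    (Subgroup.zpowers_le.2 hz) (hK ▸ hDz) hK
  have hc := hind.1
  obtain ⟨eD, hmaxc⟩ := exists_maximalPair hM hc hdef
  have hctx := nilCtx_of_nilpotent hM (nilpotent_of_commute hM hc hdef hcomm) hmaxc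
  obtain ⟨χ, hχ, -, hmin⟩ := Contribution.exists_height_zero hM hc
  have h0 : blockHeight p c (χ : Hz z → ℂ) = 0 := by
    rw [blockHeight, hmin]; exact Nat.sub_self _
  choose F hFB hF using fun f : IrrCharacter (D.subgroupOf (Hz z)) =>
    exists_starIrr hctx hχ h0 f
  have hbij : Function.Bijective
      (fun f : IrrCharacter (D.subgroupOf (Hz z)) => (⟨F f, hFB f⟩ : c)) := by
    constructor
    · intro a b hab
      by_contra hne
      have h1 := classInner_starC_irr hctx hχ h0 a b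
      have h2 : F a = F b := congrArg Subtype.val hab
      rw [← hF a, ← hF b, h2, classInner_irr_self (F b).2,
        classInner_irr_ne a.2 b.2 (fun he => hne (Subtype.ext he))] at h1
      exact one_ne_zero h1
    · rintro ⟨ψ, hψ⟩
      obtain ⟨f, hf⟩ := exists_eq_starC hctx hχ h0 hψ
      exact ⟨f, Subtype.ext (Subtype.ext ((hF f).trans hf.symm))⟩
  exact ⟨⟨c, eD, hind, hdef, hctx, χ, hχ, h0, Equiv.ofBijective _ hbij, hF⟩⟩

end CfsgLib.DihedralDefect
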