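import Cfsg.Agent.Lib.DihedralDefect.Setup
import Cfsg.Agent.Lib.DihedralDefect.Group
import Cfsg.Agent.Lib.Blk7.MajorNonvanish
import Cfsg.Agent.Lib.Blocks.SecondMain

/-!
# Restrictions to the nilpotent block at a central involution

The part of a restriction at an element of the defect group is the virtual character of the defect
group times one function; at elements having `z` among their powers these virtual characters are
column orthogonal over the block.
-/

set_option autoImplicit false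
set_option linter.unusedSectionVars false
set_option linter.style.haveILetI false

namespace CfsgLib.DihedralDefect

open Cfsg MonoidAlgebra CfsgLib.Blocks CfsgLib.BrauerPairs CfsgLib.BPStar CfsgLib.Characters
  CfsgLib.NilBlk CfsgLib.Contribution
open scoped Classical ComplexConjugate

universe u

section General

variable {p : ℕ} [Fact p.Prime] {M : Ideal AlgInt}

/-- Sums of products of block parts only see the kernels on regular elements. -/
theorem sum_part_mul_congr (hM : IsPModular p M) {A A' : Type u} [Group A] [Fintype A] [Group A']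
    [Fintype A'] {b : Set (IrrCharacter A)} (hb : IsPBlock M b) {b' : Set (IrrCharacter A')}
    (hb' : IsPBlock M b') {ι κ : Type*} [Fintype ι] [Fintype κ] (f : ι → A → ℂ) (g : ι → A' → ℂ)
    (f₁ : κ → A → ℂ) (g₁ : κ → A' → ℂ)
    (h : ∀ c : A, ¬ p ∣ orderOf c → ∀ d : A', ¬ p ∣ orderOf d →
      ∑ i, f i c * conj (g i d) = ∑ j, f₁ j c * conj (g₁ j d))
    {s : A} (hs : ¬ p ∣ orderOf s) {s' : A'} (hs' : ¬ p ∣ orderOf s') :
    ∑ i, blockPart b (f i) s * conj (blockPart b' (g i) s') =
      ∑ j, blockPart b (f₁ j) s * conj (blockPart b' (g₁ j) s') := by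
  simp only [mul_comm (blockPart b _ s)]
  rw [← blockPart_linear b (fun i => conj (blockPart b' (g i) s')) f s,
    ← blockPart_linear b (fun j => conj (blockPart b' (g₁ j) s')) f₁ s]
  refine blockPart_congr_regular hM hb (fun c hc => ?_) hs
  have h1 : ∀ d : A', ¬ p ∣ orderOf d →
      ∑ i, conj (f i c) * g i d = ∑ j, conj (f₁ j c) * g₁ j d := fun d hd => by
    have := congrArg conj (h c hc d hd)
    simpa [map_sum, map_mul, mul_comm] using this
  have h2 := congrArg conj (blockPart_congr_regular hM hb' (y := s') h1 hs')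
  rw [blockPart_linear, blockPart_linear, map_sum, map_sum] at h2
  simpa [map_mul, mul_comm] using h2

variable {G : Type u} [Group G] [Fintype G]

/-- Column orthogonality for elements whose fusion and centralisers lie in a subgroup. -/
theorem col_eq {H : Subgroup G} (u v : H) (hconj : ∀ t : G, t * u * t⁻¹ = v → t ∈ H)
    (hcz : Subgroup.centralizer ({(u : G)} : Set G) ≤ H) :
    ∑ χ : IrrCharacter G, (χ : G → ℂ) u * conj ((χ : G → ℂ) v) =
      ∑ ξ : IrrCharacter H, (ξ : H → ℂ) u * conj ((ξ : H → ℂ) v) := by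
  rw [column_orth, column_orth]
  have hiff : IsConj (u : G) v ↔ IsConj u v := by
    rw [_root_.isConj_iff, _root_.isConj_iff]
    exact ⟨fun ⟨t, ht⟩ => ⟨⟨t, hconj t ht⟩, Subtype.ext ht⟩,
      fun ⟨t, ht⟩ => ⟨t, congrArg Subtype.val ht⟩⟩
  have hcard : Nat.card (Subgroup.centralizer ({(u : G)} : Set G)) =
      Nat.card (Subgroup.centralizer ({u} : Set H)) :=
    Nat.card_congr
      { toFun := fun t => ⟨⟨t, hcz t.2⟩, Subgroup.mem_centralizer_singleton_iff.2
          (Subtype.ext (Subgroup.mem_centralizer_singleton_iff.1 t.2))⟩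
        invFun := fun t => ⟨((t : H) : G), Subgroup.mem_centralizer_singleton_iff.2
          (congrArg Subtype.val (Subgroup.mem_centralizer_singleton_iff.1 t.2))⟩
        left_inv := fun t => rfl
        right_inv := fun t => rfl }
  by_cases h : IsConj u v
  · rw [if_pos h, if_pos (hiff.2 h), hcard]
  · rw [if_neg h, if_neg (fun h' => h (hiff.1 h'))]

/-- On regular elements a class function and its part at `b` have the same products with `b`. -/
theorem sum_regular_mul_part [M.IsMaximal] (hM : IsPModular p M) {H : Type u} [Group H] [Fintype H]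
    {b : Set (IrrCharacter H)} (hb : IsPBlock M b) {θ : H → ℂ} (hθ : IsClassFunction H θ)
    {η : IrrCharacter H} (hη : η ∈ b) :
    ∑ s ∈ Finset.univ.filter (fun s : H => ¬ p ∣ orderOf s), θ s * conj ((η : H → ℂ) s) =
      ∑ s ∈ Finset.univ.filter (fun s : H => ¬ p ∣ orderOf s),
        blockPart b θ s * conj ((η : H → ℂ) s) := by
  calc ∑ s ∈ Finset.univ.filter (fun s : H => ¬ p ∣ orderOf s), θ s * conj ((η : H → ℂ) s)
      = ∑ b' ∈ blockSets M H, ∑ s ∈ Finset.univ.filter (fun s : H => ¬ p ∣ orderOf s),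
          blockPart b' θ s * conj ((η : H → ℂ) s) := by
        rw [Finset.sum_comm]
        refine Finset.sum_congr rfl fun s _ => ?_
        rw [← Finset.sum_mul, BPStar.sum_blockPart hM hθ]
    _ = _ := by
        refine Finset.sum_eq_single b (fun b' hb' hne => ?_) fun h => absurd (mem_blockSets.2 hb) h
        simp only [blockPart_eq_sum, Finset.sum_mul]
        rw [Finset.sum_comm]
        refine Finset.sum_eq_zero fun ξ hξ => ?_
        simp only [mul_assoc, ← Finset.mul_sum]
        rw [sum_regular_eq_zero_of_not_sameBlock hM (χ := ξ) (ψ := η) fun hs => hne ?_, mul_zero]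
        rw [IsPBlock.eq_blockOf hM (mem_blockSets.1 hb') (Finset.mem_filter.1 hξ).2,
          IsPBlock.eq_blockOf hM hb hη, blockOf_eq_of_sameBlock hM hs]

end General

variable {p : ℕ} [Fact p.Prime] {M : Ideal AlgInt} [M.IsMaximal]
variable {G : Type u} [Group G] [Fintype G] {hM : IsPModular p M}
variable {B : Set (IrrCharacter G)} {D : Subgroup G} {z : G}

/-- The defect group inside the centraliser. -/
abbrev DH (D : Subgroup G) (z : G) : Subgroup (Hz z) := D.subgroupOf (Hz z)

namespace Loc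

variable (L : Loc hM B D z)

theorem isPBlock : IsPBlock M L.c := L.ind.1

include L in
theorem isPBlockB : IsPBlock M B := L.ind.2.1

/-- The member attached to a character of the defect group. -/
def F' (f : IrrCharacter (DH D z)) : IrrCharacter (Hz z) := (L.F f : IrrCharacter (Hz z))

theorem F'_mem (f : IrrCharacter (DH D z)) : L.F' f ∈ L.c := (L.F f).2

theorem F'_eq (f : IrrCharacter (DH D z)) : (L.F' f : Hz z → ℂ) =
    starC hM L.c (DH D z) L.eD (f : DH D z → ℂ) (L.χ₀ : Hz z → ℂ) := L.F_eq f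

theorem F'_injective : Function.Injective L.F' := fun _ _ h => L.F.injective (Subtype.ext h)

theorem sum_c (X : IrrCharacter (Hz z) → ℂ) :
    ∑ ξ ∈ Finset.univ.filter (· ∈ L.c), X ξ = ∑ f, X (L.F' f) := by
  symm
  refine Finset.sum_nbij L.F' (fun f _ => Finset.mem_filter.2 ⟨Finset.mem_univ _, L.F'_mem f⟩)
    (fun f _ f' _ h => L.F'_injective h) (fun ξ hξ => ?_) fun f _ => rfl
  obtain ⟨f, hf⟩ := L.F.surjective ⟨ξ, (Finset.mem_filter.1 (Finset.mem_coe.1 hξ)).2⟩
  exact ⟨f, Finset.mem_coe.2 (Finset.mem_univ _), congrArg Subtype.val hf⟩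

/-- The multiplicities in the block. -/
noncomputable def mult (θ : Hz z → ℂ) (f : IrrCharacter (DH D z)) : ℂ :=
  classInner θ (L.F' f : Hz z → ℂ)

/-- The virtual character of the defect group of a class function. -/
noncomputable def gfun (θ : Hz z → ℂ) (x : DH D z) : ℂ :=
  ∑ f : IrrCharacter (DH D z), L.mult θ f * (f : DH D z → ℂ) x

/-- The restriction. -/
def res (z : G) (ψ : IrrCharacter G) : Hz z → ℂ := fun h => (ψ : G → ℂ) h

theorem isClassFunction_res (ψ : IrrCharacter G) : IsClassFunction (Hz z) (res z ψ) :=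
  NormalRes.isClassFunction_res (Hz z) (irr_isClassFunction ψ)

/-- The virtual character of `ψ`. -/
noncomputable def gval (ψ : IrrCharacter G) (x : DH D z) : ℂ := L.gfun (res z ψ) x

theorem exists_mult_nat (ψ : IrrCharacter G) (f : IrrCharacter (DH D z)) :
    ∃ m : ℕ, L.mult (res z ψ) f = m :=
  SubsectionSq.exists_mult_res ψ (L.F' f)

/-- The values of the member of height zero at `x`. -/
noncomputable def phi (x : DH D z) (s : cz (Subgroup.zpowers (x : Hz z))) : ℂ :=
  blockPart (bx L.ctx x) (secFun (x : Hz z) (L.χ₀ : Hz z → ℂ)) s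

theorem exists_phi_ne_zero (x : DH D z) :
    ∃ s : cz (Subgroup.zpowers (x : Hz z)), ¬ p ∣ orderOf s ∧ L.phi x s ≠ 0 :=
  exists_blockPart_ne_zero (hM := hM) L.ctx.star.hmax L.mem₀ L.height₀ x (isPBlock_bx L.ctx x)
    (pairLE_bx L.ctx x)

theorem part_F (f : IrrCharacter (DH D z)) (x : DH D z)
    {s : cz (Subgroup.zpowers (x : Hz z))} (hs : ¬ p ∣ orderOf s) :
    blockPart (bx L.ctx x) (secFun (x : Hz z) (L.F' f : Hz z → ℂ)) s =
      (f : DH D z → ℂ) x * L.phi x s := by
  have hu := exists_pow_orderOf L.ctx x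
  have hb := isPBlock_bx L.ctx x
  set C := cz (Subgroup.zpowers (x : Hz z)) with hC
  rw [blockPart_congr_regular hM hb (g := fun c => ∑ b' : {b' // b' ∈ blockSets M C},
      wC hM (DH D z) L.eD (f : DH D z → ℂ) (x : Hz z) (eA hM C b'.1) *
        blockPart b'.1 (secFun (x : Hz z) (L.χ₀ : Hz z → ℂ)) c) ?_ hs,
    blockPart_linear]
  · rw [Finset.sum_eq_single ⟨bx L.ctx x, mem_blockSets.2 hb⟩]
    · rw [blockPart_blockPart hM hb hb, if_pos rfl, wC_bx L.ctx (irr_isClassFunction f)]
      rfl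
    · intro b' _ hne
      rw [blockPart_blockPart hM hb (mem_blockSets.1 b'.2),
        if_neg (fun h0 => hne (Subtype.ext h0.symm)), mul_zero]
    · exact fun h0 => absurd (Finset.mem_univ _) h0
  · intro c hc
    show (L.F' f : Hz z → ℂ) (x * (c : Hz z)) = _
    rw [F'_eq, starC_sec L.isPBlock L.mem₀ hu hc]
    exact (Finset.sum_coe_sort (blockSets M C)
      (fun b' => wC hM (DH D z) L.eD (f : DH D z → ℂ) (x : Hz z) (eA hM C b') *
        blockPart b' (secFun (x : Hz z) (L.χ₀ : Hz z → ℂ)) c)).symm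

theorem part_out {ξ : IrrCharacter (Hz z)} (hξ : ξ ∉ L.c) (x : DH D z)
    {s : cz (Subgroup.zpowers (x : Hz z))} (hs : ¬ p ∣ orderOf s) :
    blockPart (bx L.ctx x) (secFun (x : Hz z) (ξ : Hz z → ℂ)) s = 0 := by
  have := charP_res hM
  have hb := isPBlock_bx L.ctx x
  refine blockPart_secFun_eq_zero hM (isPBlock_blockOf (M := M) ξ) (mem_blockOf_self hM ξ)
    (exists_pow_orderOf L.ctx x) hs hb fun hcov => ?_
  have hne : L.c ≠ blockOf M (ξ : Hz z → ℂ) := fun h => hξ (h ▸ mem_blockOf_self hM ξ)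
  have hE := isBlockIdem_eG hM L.isPBlock
  have hE' := isBlockIdem_eG hM (isPBlock_blockOf (M := M) ξ)
  have h0 : eG hM L.c * eG hM (blockOf M (ξ : Hz z → ℂ)) = 0 :=
    hE.mul_eq_zero hE' fun h => hne (eG_inj hM L.isPBlock (isPBlock_blockOf ξ) h)
  have hP' := ((isBrauerPairOf_iff hM L.c (DH D z) L.eD).1 L.ctx.star.hmax.1).2.2
  have hcov' := (brMap_cover_iff (pairLE_bx L.ctx x) hE.fixed hE.idem).2 hP'.cover
  refine (isBlockIdem_eA hM hb).ne_zero ?_
  have hQ : IsPGroup p (Subgroup.zpowers (x : Hz z)) :=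
    BPStar.isPGroup_zpowers (exists_pow_orderOf L.ctx x)
  dsimp only at hcov'
  rw [← hcov', ← hcov, ← mul_assoc, ← brMap_mul hQ (fixAlg_anti le_top hE.fixed)
    (fixAlg_anti le_top hE'.fixed), h0, map_zero, zero_mul]

theorem part_eq {θ : Hz z → ℂ} (hθ : IsClassFunction (Hz z) θ) (x : DH D z)
    {s : cz (Subgroup.zpowers (x : Hz z))} (hs : ¬ p ∣ orderOf s) :
    blockPart (bx L.ctx x) (secFun (x : Hz z) θ) s = L.gfun θ x * L.phi x s := by
  have e1 : secFun (x : Hz z) θ = fun c => ∑ ξ : IrrCharacter (Hz z),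
      classInner θ (ξ : Hz z → ℂ) * secFun (x : Hz z) (ξ : Hz z → ℂ) c := by
    funext c
    rw [secFun]
    conv_lhs => rw [classFunction_eq_sum hθ]
    simp [secFun]
  rw [e1, blockPart_linear, ← Finset.sum_filter_add_sum_filter_not Finset.univ (· ∈ L.c),
    Finset.sum_eq_zero (s := Finset.univ.filter fun ξ => ¬ ξ ∈ L.c) fun ξ hξ => by
      rw [L.part_out (Finset.mem_filter.1 hξ).2 x hs, mul_zero], add_zero,
    L.sum_c, gfun, Finset.sum_mul]
  refine Finset.sum_congr rfl fun f _ => ?_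
  rw [L.part_F f x hs, mult, mul_assoc]

theorem part_res (ψ : IrrCharacter G) (x : DH D z)
    {s : cz (Subgroup.zpowers (x : Hz z))} (hs : ¬ p ∣ orderOf s) :
    blockPart (bx L.ctx x) (fun c => (ψ : G → ℂ) (((x : Hz z) : G) * ((c : Hz z) : G))) s =
      L.gval ψ x * L.phi x s :=
  L.part_eq (isClassFunction_res ψ) x hs

theorem gval_eq_zero {ψ : IrrCharacter G} (hψ : ψ ∉ B) (x : DH D z)
    (hx : z ∈ Subgroup.zpowers ((x : Hz z) : G)) : L.gval ψ x = 0 := by
  obtain ⟨s, hs, hne⟩ := L.exists_phi_ne_zero x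
  set θ : Hz z → ℂ := fun h => blockPart L.c (res z ψ) h with hθ
  have hcf : IsClassFunction (Hz z) θ := fun a t => by
    simp only [hθ, blockPart_eq_sum]
    exact Finset.sum_congr rfl fun ξ _ => by rw [irr_isClassFunction ξ a t]
  have h1 : blockPart (bx L.ctx x) (secFun (x : Hz z) θ) s = 0 := by
    rw [blockPart_congr_regular hM (isPBlock_bx L.ctx x) (g := fun _ => (0 : ℂ)) (fun c hc => ?_) hs]
    · simp [blockPart_eq_sum, classInner]
    show blockPart L.c (res z ψ) ((x : Hz z) * (c : Hz z)) = 0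
    rw [← sum_blockCoeff_mul_eq_blockPart L.c (isClassFunction_res ψ) _]
    refine secondMain_idempotent hM L.ind ((x : Hz z) * (c : Hz z)) (u := ((x : Hz z) : G)) ?_
      (centralizer_le_of_mem hx) hψ
    rw [Subgroup.coe_mul]
    refine isPPart_mul ((BPStar.commute_of_mem_cz c.2).map (Hz z).subtype) ?_ ?_
    · obtain ⟨k, hk⟩ := exists_pow_orderOf L.ctx x
      exact ⟨k, by rw [Subgroup.orderOf_coe]; exact hk⟩
    · rwa [Subgroup.orderOf_coe, Subgroup.orderOf_coe]
  rw [L.part_eq hcf x hs] at h1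
  have h2 : L.gfun θ x = L.gval ψ x := by
    rw [gval, gfun, gfun]
    refine Finset.sum_congr rfl fun f _ => ?_
    congr 1
    rw [mult, mult, show θ = ∑ ξ ∈ Finset.univ.filter (· ∈ L.c),
        classInner (res z ψ) (ξ : Hz z → ℂ) • (ξ : Hz z → ℂ) by
      funext h; simp [hθ, blockPart_eq_sum], classInner_sum_left,
      Finset.sum_eq_single (L.F' f)]
    · rw [classInner_smul_left, classInner_irr_self (L.F' f).2, mul_one]
    · intro ξ _ hne'
      rw [classInner_smul_left, classInner_irr_ne ξ.2 (L.F' f).2 (fun e => hne' (Subtype.ext e)),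
        mul_zero]
    · exact fun h => absurd (Finset.mem_filter.2 ⟨Finset.mem_univ _, L.F'_mem f⟩) h
  rw [h2] at h1
  exact (mul_eq_zero.1 h1).resolve_right hne

theorem sum_members (X : IrrCharacter G → ℂ) (h0 : ∀ ψ, ψ ∉ B → X ψ = 0) :
    ∑ ψ : IrrCharacter G, X ψ = ∑ ψ ∈ members B, X ψ :=
  (Finset.sum_subset (Finset.subset_univ _) fun ψ _ h => h0 ψ (fun hB => h (mem_members.2 hB))).symm

/-- Transfer of a kernel from `G` to the centraliser. -/
theorem sum_part_G_eq_H (L : Loc hM B D z) (hz2 : orderOf z = 2) (x y : DH D z)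
    (hx : z ∈ Subgroup.zpowers ((x : Hz z) : G)) (hy : z ∈ Subgroup.zpowers ((y : Hz z) : G))
    {c : cz (Subgroup.zpowers (x : Hz z))} (hc : ¬ p ∣ orderOf c)
    {d : cz (Subgroup.zpowers (y : Hz z))} (hd : ¬ p ∣ orderOf d) :
    ∑ ψ : IrrCharacter G, (ψ : G → ℂ) (((x : Hz z) : G) * ((c : Hz z) : G)) *
        conj ((ψ : G → ℂ) (((y : Hz z) : G) * ((d : Hz z) : G))) =
      ∑ ξ : IrrCharacter (Hz z), (ξ : Hz z → ℂ) ((x : Hz z) * (c : Hz z)) *
        conj ((ξ : Hz z → ℂ) ((y : Hz z) * (d : Hz z))) := by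
  have hpart : ∀ (x : DH D z) (c : cz (Subgroup.zpowers (x : Hz z))), ¬ p ∣ orderOf c →
      IsPPart p ((((x : Hz z) * (c : Hz z) : Hz z)) : G) ((x : Hz z) : G) := fun x c hc => by
    rw [Subgroup.coe_mul]
    refine isPPart_mul ((BPStar.commute_of_mem_cz c.2).map (Hz z).subtype) ?_ ?_
    · obtain ⟨k, hk⟩ := exists_pow_orderOf L.ctx x
      exact ⟨k, by rw [Subgroup.orderOf_coe]; exact hk⟩
    · rwa [Subgroup.orderOf_coe, Subgroup.orderOf_coe]
  refine col_eq (H := Hz z) ((x : Hz z) * (c : Hz z)) ((y : Hz z) * (d : Hz z)) (fun t ht => ?_)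
    (fun t ht => centralizer_le_of_mem hx ?_)
  · have h := IsPPart.conj (hpart x c hc) t
    rw [ht] at h
    exact mem_centralizer_of_conj hz2 hx hy (IsPPart.unique hM.1 h (hpart y d hd))
  · have h1 := Subgroup.mem_centralizer_singleton_iff.1 ht
    have h := IsPPart.conj (hpart x c hc) t
    rw [h1, mul_inv_cancel_right] at h
    exact Subgroup.mem_centralizer_singleton_iff.2
      (mul_inv_eq_iff_eq_mul.1 (IsPPart.unique hM.1 h (hpart x c hc)))

/-- Column orthogonality of the virtual characters over the block. -/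
theorem gval_orth (hz : orderOf z = 2) (x y : DH D z)
    (hx : z ∈ Subgroup.zpowers ((x : Hz z) : G)) (hy : z ∈ Subgroup.zpowers ((y : Hz z) : G)) :
    ∑ ψ ∈ members B, L.gval ψ x * conj (L.gval ψ y) =
      ∑ f : IrrCharacter (DH D z), (f : DH D z → ℂ) x * conj ((f : DH D z → ℂ) y) := by
  obtain ⟨s, hs, hne⟩ := L.exists_phi_ne_zero x
  obtain ⟨s', hs', hne'⟩ := L.exists_phi_ne_zero y
  have hkey := sum_part_mul_congr hM (isPBlock_bx L.ctx x) (isPBlock_bx L.ctx y)
    (fun (ψ : IrrCharacter G) (c : cz (Subgroup.zpowers (x : Hz z))) =>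
      (ψ : G → ℂ) (((x : Hz z) : G) * ((c : Hz z) : G)))
    (fun (ψ : IrrCharacter G) (d : cz (Subgroup.zpowers (y : Hz z))) =>
      (ψ : G → ℂ) (((y : Hz z) : G) * ((d : Hz z) : G)))
    (fun ξ : IrrCharacter (Hz z) => secFun (x : Hz z) (ξ : Hz z → ℂ))
    (fun ξ : IrrCharacter (Hz z) => secFun (y : Hz z) (ξ : Hz z → ℂ))
    (fun c hc d hd => L.sum_part_G_eq_H hz x y hx hy hc hd) hs hs'
  rw [Finset.sum_congr rfl (fun (ψ : IrrCharacter G) _ => by
      rw [L.part_res ψ x hs, L.part_res ψ y hs', map_mul, mul_mul_mul_comm]),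
    ← Finset.sum_mul, sum_members (B := B) _ (fun ψ hψ => by
      rw [L.gval_eq_zero hψ x hx, zero_mul]),
    ← Finset.sum_filter_add_sum_filter_not Finset.univ (· ∈ L.c),
    Finset.sum_eq_zero (s := Finset.univ.filter fun ξ => ¬ ξ ∈ L.c) (fun ξ hξ => by
      rw [L.part_out (Finset.mem_filter.1 hξ).2 x hs, zero_mul]), add_zero, L.sum_c,
    Finset.sum_congr rfl (fun (f : IrrCharacter (DH D z)) _ => by
      rw [L.part_F f x hs, L.part_F f y hs', map_mul, mul_mul_mul_comm]),
    ← Finset.sum_mul] at hkey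
  exact mul_right_cancel₀ (mul_ne_zero hne ((map_ne_zero _).2 hne')) hkey

/-- Orthogonality to the values at regular elements. -/
theorem sum_regular_gval {w : G} (hw : ¬ p ∣ orderOf w) (x : DH D z)
    (hx : z ∈ Subgroup.zpowers ((x : Hz z) : G)) (hz : orderOf z = p) :
    ∑ ψ ∈ members B, (ψ : G → ℂ) w * conj (L.gval ψ x) = 0 := by
  obtain ⟨s, hs, hne⟩ := L.exists_phi_ne_zero x
  have h := blockPart_congr_regular hM (isPBlock_bx L.ctx x)
    (f := fun c : cz (Subgroup.zpowers (x : Hz z)) => ∑ ψ : members B,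
      conj (((ψ : IrrCharacter G) : G → ℂ) w) *
        ((ψ : IrrCharacter G) : G → ℂ) (((x : Hz z) : G) * ((c : Hz z) : G)))
    (g := fun _ => (0 : ℂ)) (fun c hc => ?_) hs
  · rw [blockPart_linear (bx L.ctx x)
      (fun ψ : members B => conj (((ψ : IrrCharacter G) : G → ℂ) w))
      (fun (ψ : members B) (c : cz (Subgroup.zpowers (x : Hz z))) =>
        ((ψ : IrrCharacter G) : G → ℂ) (((x : Hz z) : G) * ((c : Hz z) : G))) s,
      Finset.sum_congr rfl (fun (ψ : members B) _ => by
        rw [L.part_res (ψ : IrrCharacter G) x hs, ← mul_assoc]), ← Finset.sum_mul,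
      show blockPart (bx L.ctx x) (fun _ => (0 : ℂ)) s = 0 by simp [blockPart_eq_sum, classInner],
      mul_eq_zero, or_iff_left hne,
      Finset.sum_coe_sort (members B) (fun ψ : IrrCharacter G =>
        conj ((ψ : G → ℂ) w) * L.gval ψ x)] at h
    have h' := congrArg conj h
    simpa [map_sum, map_mul] using h'
  · have hcG : ¬ p ∣ orderOf ((c : Hz z) : G) := by
      rwa [Subgroup.orderOf_coe, Subgroup.orderOf_coe]
    obtain ⟨k, hk⟩ := exists_pow_orderOf L.ctx x
    have hkG : orderOf ((x : Hz z) : G) = p ^ k := by rw [Subgroup.orderOf_coe]; exact hk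
    have hdvd : p ∣ orderOf (((x : Hz z) : G) * ((c : Hz z) : G)) := by
      have hcm : Commute ((x : Hz z) : G) ((c : Hz z) : G) :=
        (BPStar.commute_of_mem_cz c.2).map (Hz z).subtype
      rw [hcm.orderOf_mul_eq_mul_orderOf_of_coprime
        (by
          show Nat.Coprime (orderOf ((x : Hz z) : G)) (orderOf ((c : Hz z) : G))
          rw [hkG]
          exact (((Fact.out : p.Prime).coprime_iff_not_dvd).2 hcG).pow_left k)]
      refine dvd_mul_of_dvd_left ?_ _
      show p ∣ orderOf ((x : Hz z) : G)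
      obtain ⟨i, hi⟩ := Subgroup.mem_zpowers_iff.1 hx
      rw [← hz]
      conv_lhs => rw [← hi]
      exact orderOf_dvd_of_pow_eq_one (by
        rw [← zpow_natCast, ← zpow_mul, mul_comm, zpow_mul, zpow_natCast, pow_orderOf_eq_one,
          one_zpow])
    have h := congrArg conj (weak_orth hM L.isPBlockB hw hdvd)
    rw [Finset.sum_coe_sort (members B) (fun ψ : IrrCharacter G => conj ((ψ : G → ℂ) w) *
      (ψ : G → ℂ) (((x : Hz z) : G) * ((c : Hz z) : G)))]
    simpa [map_sum, map_mul, members] using h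

end Loc

end CfsgLib.DihedralDefect
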